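/-
Orders of `σ w - w` for an automorphism `σ` of `k[[X]]` of order `p` with ramification break `m`.
-/
import Mathlib

set_option autoImplicit false

namespace Groth.Agent.ASPurity.Break

open PowerSeries

universe u

variable {k : Type u} [Field k] (σ : PowerSeries k ≃ₐ[k] PowerSeries k)

theorem map_C (c : k) : σ (C c) = C c := by
  simpa [PowerSeries.algebraMap_apply] using σ.commutes c

theorem exists_eq_X_pow_mul {w : PowerSeries k} (hw : w ≠ 0) :
    ∃ (e : ℕ) (v : PowerSeries k), w = X ^ e * v ∧ constantCoeff v ≠ 0 :=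
  ⟨w.order.toNat, divXPowOrder w, (X_pow_order_mul_divXPowOrder).symm,
    fun h => hw (constantCoeff_divXPowOrder_eq_zero_iff.mp h)⟩

theorem order_X_pow_mul (e : ℕ) {v : PowerSeries k} (hv : constantCoeff v ≠ 0) :
    (X ^ e * v).order = (e : ℕ∞) := by
  rw [order_mul, order_X_pow,
    order_zero_of_unit (isUnit_iff_constantCoeff.mpr (isUnit_iff_ne_zero.mpr hv)), add_zero]

theorem eq_of_X_pow_mul_eq {a b : ℕ} {v w : PowerSeries k} (hv : constantCoeff v ≠ 0)
    (hw : constantCoeff w ≠ 0) (h : X ^ a * v = X ^ b * w) : a = b := by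
  have := congrArg PowerSeries.order h
  rw [order_X_pow_mul a hv, order_X_pow_mul b hw] at this
  exact_mod_cast this

theorem exists_eq_of_order_eq {w : PowerSeries k} {e : ℕ} (h : w.order = (e : ℕ∞)) :
    ∃ v : PowerSeries k, w = X ^ e * v ∧ constantCoeff v ≠ 0 := by
  have hw : w ≠ 0 := by rintro rfl; simp at h
  obtain ⟨e', v, hv, hv0⟩ := exists_eq_X_pow_mul hw
  rw [hv, order_X_pow_mul e' hv0] at h
  obtain rfl : e' = e := by exact_mod_cast h
  exact ⟨v, hv, hv0⟩

theorem constantCoeff_map_X : constantCoeff (σ X) = 0 := by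
  by_contra h
  have hu : IsUnit (σ X) := isUnit_iff_constantCoeff.mpr (isUnit_iff_ne_zero.mpr h)
  have h1 := (hu.map σ.symm)
  rw [σ.symm_apply_apply] at h1
  simp [isUnit_iff_constantCoeff] at h1

theorem constantCoeff_map (w : PowerSeries k) : constantCoeff (σ w) = constantCoeff w := by
  conv_lhs => rw [eq_X_mul_shift_add_const w]
  rw [map_add, map_mul, map_C, map_add, map_mul, constantCoeff_map_X, zero_mul, zero_add,
    constantCoeff_C]

/-- all iterates of `X` have the linear coefficient a power of the linear coefficient of `σ X` -/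
theorem exists_pow_map_X {η : PowerSeries k} (hη : σ X = X * η) (n : ℕ) :
    ∃ ηn : PowerSeries k, (σ ^ n) X = X * ηn ∧
      constantCoeff ηn = constantCoeff η ^ n := by
  induction n with
  | zero => exact ⟨1, by simp, by simp⟩
  | succ n ih =>
    obtain ⟨ηn, h1, h2⟩ := ih
    refine ⟨η * σ ηn, ?_, ?_⟩
    · rw [pow_succ', AlgEquiv.mul_apply, h1, map_mul, hη, mul_assoc]
    · rw [map_mul, constantCoeff_map, h2, pow_succ']

variable (p : ℕ) [Fact p.Prime] [CharP k p]

theorem linear_coeff_eq_one (hσp : σ ^ p = 1) {η : PowerSeries k} (hη : σ X = X * η) :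
    constantCoeff η = 1 := by
  obtain ⟨ηp, h1, h2⟩ := exists_pow_map_X σ hη p
  rw [hσp, AlgEquiv.one_apply] at h1
  have h3 : ηp = 1 := mul_left_cancel₀ X_ne_zero (by rw [← h1, mul_one])
  rw [h3, map_one] at h2
  have h4 : (constantCoeff η - 1) ^ p = 0 := by rw [sub_pow_char, ← h2, one_pow, sub_self]
  exact sub_eq_zero.mp (eq_zero_of_pow_eq_zero h4)

variable {m : ℕ}

theorem one_le_break (hσp : σ ^ p = 1)
    (hm : (σ X - X).order = ((m + 1 : ℕ) : ℕ∞)) : 1 ≤ m := by
  obtain ⟨η, h1, h2⟩ := exists_eq_of_order_eq hm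
  by_contra h
  obtain rfl : m = 0 := by omega
  have h3 := linear_coeff_eq_one σ p hσp (η := 1 + η) (by
    rw [mul_add, mul_one, ← sub_eq_iff_eq_add']; simpa using h1)
  rw [map_add, map_one, add_eq_left] at h3
  exact h2 h3

theorem dvd_map_sub (hm : (σ X - X).order = ((m + 1 : ℕ) : ℕ∞)) {n : ℕ} (hn : n ≤ m + 1)
    (w : PowerSeries k) : X ^ n ∣ σ w - w := by
  induction n generalizing w with
  | zero => simp
  | succ n ih =>
    obtain ⟨η, h1, -⟩ := exists_eq_of_order_eq hm
    have hdec : σ w - w = (σ X - X) * σ (PowerSeries.mk fun i => coeff (i + 1) w) +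
        X * (σ (PowerSeries.mk fun i => coeff (i + 1) w) -
          (PowerSeries.mk fun i => coeff (i + 1) w)) := by
      conv_lhs => rw [eq_X_mul_shift_add_const w]
      rw [map_add, map_mul, map_C]
      ring
    rw [hdec]
    refine dvd_add (Dvd.dvd.mul_right ?_ _) ?_
    · rw [h1]
      exact (pow_dvd_pow X hn).mul_right η
    · rw [pow_succ']
      exact mul_dvd_mul_left X (ih (by omega) _)

omit [Fact p.Prime] [CharP k p] in
theorem exists_one_add_pow (a : PowerSeries k) (e : ℕ) :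
    ∃ r, (1 + a) ^ e = 1 + (e : PowerSeries k) * a + a ^ 2 * r := by
  induction e with
  | zero => exact ⟨0, by simp⟩
  | succ e ih =>
    obtain ⟨r, hr⟩ := ih
    exact ⟨r + (e : PowerSeries k) + a * r, by rw [pow_succ, hr]; push_cast; ring⟩

/-- If `p ∤ e` and `w` has order `e`, then `σ w - w` has order `e + m`. -/
theorem map_sub_eq (hσp : σ ^ p = 1) (hm : (σ X - X).order = ((m + 1 : ℕ) : ℕ∞)) {e : ℕ}
    (he : ¬ p ∣ e) {v : PowerSeries k} (hv : constantCoeff v ≠ 0) :
    ∃ q : PowerSeries k, σ (X ^ e * v) - X ^ e * v = X ^ (e + m) * q ∧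
      constantCoeff q ≠ 0 := by
  have hm1 := one_le_break σ p hσp hm
  obtain ⟨η, h1, h2⟩ := exists_eq_of_order_eq hm
  obtain ⟨s, hs⟩ := dvd_map_sub σ hm le_rfl v
  have hσX : σ X = X * (1 + X ^ m * η) := by linear_combination h1
  obtain ⟨r, hr⟩ := exists_one_add_pow (X ^ m * η) e
  refine ⟨X * s + ((e : PowerSeries k) * η + X ^ m * (η ^ 2 * r)) * σ v, ?_, ?_⟩
  · rw [map_mul, map_pow, hσX, mul_pow, hr]
    linear_combination (X : PowerSeries k) ^ e * hs
  · have hXm : constantCoeff ((X : PowerSeries k) ^ m) = 0 := by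
      rw [map_pow, constantCoeff_X, zero_pow (by omega)]
    simp only [map_add, map_mul, constantCoeff_X, zero_mul, zero_add, hXm, add_zero, map_natCast,
      constantCoeff_map]
    exact mul_ne_zero (mul_ne_zero (fun h => he ((CharP.cast_eq_zero_iff k p e).mp h)) h2) hv

/-- A nonzero invariant has order divisible by `p`. -/
theorem dvd_of_fixed (hσp : σ ^ p = 1) (hm : (σ X - X).order = ((m + 1 : ℕ) : ℕ∞)) {e : ℕ}
    {v : PowerSeries k} (hv : constantCoeff v ≠ 0) (hfix : σ (X ^ e * v) = X ^ e * v) :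
    p ∣ e := by
  by_contra he
  obtain ⟨q, hq, hq0⟩ := map_sub_eq σ p hσp hm he hv
  rw [hfix, sub_self] at hq
  refine hq0 ?_
  rcases mul_eq_zero.mp hq.symm with h | h
  · exact absurd h (pow_ne_zero _ X_ne_zero)
  · simp [h]

/-- The norm of `X` is an invariant of order `p`. -/
theorem norm_X (hσp : σ ^ p = 1) :
    σ (∏ i ∈ Finset.range p, (σ ^ i) X) = ∏ i ∈ Finset.range p, (σ ^ i) X ∧
    ∃ ξ : PowerSeries k, ∏ i ∈ Finset.range p, (σ ^ i) X = X ^ p * ξ ∧
      constantCoeff ξ ≠ 0 := by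
  constructor
  · have h1 := Finset.prod_range_succ (fun i => (σ ^ i) (X : PowerSeries k)) p
    have h2 := Finset.prod_range_succ' (fun i => (σ ^ i) (X : PowerSeries k)) p
    rw [h1, hσp, AlgEquiv.one_apply] at h2
    simp only [pow_zero, AlgEquiv.one_apply] at h2
    rw [map_prod]
    refine Eq.trans ?_ (mul_right_cancel₀ X_ne_zero h2).symm
    exact Finset.prod_congr rfl fun i _ => by rw [pow_succ', AlgEquiv.mul_apply]
  · obtain ⟨η, hη⟩ : (X : PowerSeries k) ∣ σ X :=
      X_dvd_iff.mpr (constantCoeff_map_X σ)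
    have hone := linear_coeff_eq_one σ p hσp hη
    choose ηn h1 h2 using exists_pow_map_X σ hη
    refine ⟨∏ i ∈ Finset.range p, ηn i, ?_, ?_⟩
    · simp only [h1, Finset.prod_mul_distrib, Finset.prod_const, Finset.card_range]
    · simp [map_prod, h2, hone]

end Groth.Agent.ASPurity.Break
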