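import Mathlib
import Groth.Agent.S2082
import Groth.Agent.Depth.CM
import Groth.Agent.FlatFibres.Basic

/-!
# Flatness of Frobenius of a regular local ring, and a colon consequence
-/

set_option autoImplicit false

universe u

open IsLocalRing

namespace Groth.Agent.ASPurity

theorem flat_of_dim {R S : Type u} [CommRing R] [CommRing S] [IsRegularLocalRing R]
    [LocCoh.IsCohenMacaulayLocalRing S] (f : R →+* S) (hf : IsLocalHom f)
    (h : ringKrullDim S = ringKrullDim R + ringKrullDim (S ⧸ (maximalIdeal R).map f)) : f.Flat := by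
  algebraize [f]
  have : IsLocalHom (algebraMap R S) := hf
  exact RegLoc.Miracle.flat_of_ringKrullDim_eq_add h

/-- Kunz, easy direction: the Frobenius of a regular local ring is flat. -/
theorem frobenius_flat (A : Type u) [CommRing A] [IsRegularLocalRing A] (p : ℕ) [hp : Fact p.Prime] [CharP A p] :
    (frobenius A p).Flat := by
  have : LocCoh.IsCohenMacaulayLocalRing A := Depth.isCohenMacaulayLocalRing_of_isRegularLocalRing
  refine flat_of_dim _ ⟨fun a ha => (isUnit_pow_iff hp.out.ne_zero).1 ha⟩ ?_
  set J := (maximalIdeal A).map (frobenius A p)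
  have hJ : J ≤ maximalIdeal A := Ideal.map_le_iff_le_comap.2 fun a ha => by
    rw [Ideal.mem_comap, frobenius_def]
    exact Ideal.pow_mem_of_mem _ ha _ hp.out.pos
  have : Nontrivial (A ⧸ J) :=
    Ideal.Quotient.nontrivial_iff.2 fun h => (maximalIdeal.isMaximal A).ne_top (top_le_iff.1 (h ▸ hJ))
  have : Ring.KrullDimLE 0 (A ⧸ J) := by
    refine Ring.KrullDimLE.mk₀ fun P hP => ?_
    have hle : maximalIdeal A ≤ P.comap (Ideal.Quotient.mk J) := by
      intro a ha
      refine (Ideal.IsPrime.comap (hK := hP) (Ideal.Quotient.mk J)).mem_of_pow_mem p ?_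
      have hmem : a ^ p ∈ J := by
        have := Ideal.mem_map_of_mem (frobenius A p) ha
        rwa [frobenius_def] at this
      rw [Ideal.mem_comap, Ideal.Quotient.eq_zero_iff_mem.2 hmem]
      exact P.zero_mem
    have hmax : P.comap (Ideal.Quotient.mk J) = maximalIdeal A :=
      ((maximalIdeal.isMaximal A).eq_of_le (Ideal.IsPrime.comap (hK := hP) _).ne_top hle).symm
    rw [← Ideal.map_comap_of_surjective _ Ideal.Quotient.mk_surjective P, hmax]
    refine (Ideal.map_eq_top_or_isMaximal_of_surjective _ Ideal.Quotient.mk_surjective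
      (maximalIdeal.isMaximal A)).resolve_left fun htop => hP.ne_top ?_
    rw [← Ideal.map_comap_of_surjective _ Ideal.Quotient.mk_surjective P, hmax, htop]
  rw [(ringKrullDimZero_iff_ringKrullDim_eq_zero (R := A ⧸ J)).1 inferInstance, add_zero]

theorem mem_map_colon_of_flat {A B : Type u} [CommRing A] [CommRing B] (f : A →+* B) (hf : f.Flat)
    (T : Ideal A) (y : A) (b : B) (h : f y * b ∈ T.map f) : b ∈ (T.colon {y}).map f := by
  algebraize [f]
  exact FlatFibres.mem_map_colon T y b h

/-- An element whose colon ideal is stable under Frobenius lies in the ideal. -/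
theorem mem_of_colon_frobenius {A : Type u} [CommRing A] [IsRegularLocalRing A] [IsDomain A] (p : ℕ)
    [hp : Fact p.Prime] [CharP A p] (T : Ideal A) {s : A} (hs : s ∈ T) (hs0 : s ≠ 0) (x : A)
    (h : ∀ j ∈ T.colon {x}, j * x ^ p ∈ T.map (frobenius A p)) : x ∈ T := by
  set J := T.colon {x} with hJ
  have hle : J ≤ J.map (frobenius A p) := fun j hj => by
    refine mem_map_colon_of_flat _ (frobenius_flat A p) T x j ?_
    rw [frobenius_def, mul_comm]
    exact h j hj
  by_contra hx
  have hne : J ≠ ⊤ := fun htop => hx (by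
    have := Submodule.mem_colon_singleton.1 (htop ▸ Submodule.mem_top (x := (1 : A)) : (1 : A) ∈ J)
    simpa using this)
  have hJm : J ≤ maximalIdeal A := IsLocalRing.le_maximalIdeal hne
  have hsq : J.map (frobenius A p) ≤ maximalIdeal A • J := Ideal.map_le_iff_le_comap.2 fun a ha => by
    rw [Ideal.mem_comap, frobenius_def, ← Nat.sub_add_cancel hp.out.one_le, pow_succ]
    refine Submodule.smul_mem_smul ?_ ha
    exact Ideal.pow_mem_of_mem _ (hJm ha) _ (Nat.sub_pos_of_lt hp.out.one_lt)
  have hbot := Submodule.eq_bot_of_le_smul_of_le_jacobson_bot (maximalIdeal A) J (IsNoetherian.noetherian J)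
    (hle.trans hsq) (IsLocalRing.maximalIdeal_le_jacobson _)
  refine hs0 ((Submodule.mem_bot A).1 (hbot ▸ ?_))
  rw [Submodule.mem_colon_singleton]
  exact T.mul_mem_right _ hs

end Groth.Agent.ASPurity
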