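import Mathlib
import Groth.Agent.S2111
import Groth.Agent.ASPurity.Frobenius

/-!
# Artin–Schreier classes unramified in codimension one on a regular local ring
-/

set_option autoImplicit false

universe u

open IsLocalRing

namespace Groth.Agent.ASPurity

variable {A : Type u} [CommRing A] [IsDomain A]

local notation "L" => FractionRing A
local notation "ι" => algebraMap A (FractionRing A)

/-- `x` lies in the local ring at `P`. -/
def InLoc (P : Ideal A) (x : L) : Prop := ∃ t ∉ P, ∃ c : A, ι t * x = ι c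

theorem InLoc.add {P : Ideal A} [P.IsPrime] {x y : L} (hx : InLoc P x) (hy : InLoc P y) : InLoc P (x + y) := by
  obtain ⟨t, ht, c, hc⟩ := hx
  obtain ⟨t', ht', c', hc'⟩ := hy
  refine ⟨t * t', fun h => (Ideal.IsPrime.mem_or_mem ‹_› h).elim ht ht', c * t' + c' * t, ?_⟩
  simp only [map_mul, map_add]
  linear_combination ι t' * hc + ι t * hc'

theorem InLoc.neg {P : Ideal A} {x : L} (hx : InLoc P x) : InLoc P (-x) := by
  obtain ⟨t, ht, c, hc⟩ := hx
  exact ⟨t, ht, -c, by rw [map_neg, ← hc, mul_neg]⟩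

theorem InLoc.sub {P : Ideal A} [P.IsPrime] {x y : L} (hx : InLoc P x) (hy : InLoc P y) : InLoc P (x - y) := by
  rw [sub_eq_add_neg]; exact hx.add hy.neg

theorem InLoc.mul {P : Ideal A} [P.IsPrime] {x y : L} (hx : InLoc P x) (hy : InLoc P y) : InLoc P (x * y) := by
  obtain ⟨t, ht, c, hc⟩ := hx
  obtain ⟨t', ht', c', hc'⟩ := hy
  refine ⟨t * t', fun h => (Ideal.IsPrime.mem_or_mem ‹_› h).elim ht ht', c * c', ?_⟩
  simp only [map_mul]
  rw [← hc, ← hc']; ring

theorem inLoc_algebraMap {P : Ideal A} [P.IsPrime] (c : A) : InLoc P (ι c) :=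
  ⟨1, P.ne_top_iff_one.1 ‹P.IsPrime›.ne_top, c, by simp⟩

theorem InLoc.pow {P : Ideal A} [P.IsPrime] {x : L} (hx : InLoc P x) (n : ℕ) : InLoc P (x ^ n) := by
  induction n with
  | zero => simpa using inLoc_algebraMap (P := P) (1 : A)
  | succ n ih => rw [pow_succ]; exact ih.mul hx

theorem inLoc_div {P : Ideal A} (a : A) {s : A} (hs : s ∉ P) : InLoc P (ι a / ι s) := by
  refine ⟨s, hs, a, ?_⟩
  have : ι s ≠ 0 := fun h => hs (by rw [IsFractionRing.to_map_eq_zero_iff.1 h]; exact P.zero_mem)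
  field_simp

theorem exists_of_forall_inLoc [IsNoetherianRing A] [IsIntegrallyClosed A] (x : L)
    (h : ∀ P : Ideal A, P.IsPrime → P.height = 1 → InLoc P x) : ∃ a : A, ι a = x := by
  refine S2111.result x fun P hP h1 => ?_
  obtain ⟨t, ht, c, hc⟩ := h P hP h1
  refine ⟨IsLocalization.mk' (Localization.AtPrime P) c (⟨t, ht⟩ : P.primeCompl), ?_⟩
  have hu : IsUnit (ι t) := (IsUnit.mk0 _ fun h0 => ht (by rw [IsFractionRing.to_map_eq_zero_iff.1 h0]; exact P.zero_mem))
  refine hu.mul_left_cancel ?_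
  rw [hc, IsScalarTower.algebraMap_apply A (Localization.AtPrime P) L t, ← map_mul]
  refine (congrArg (algebraMap (Localization.AtPrime P) L) ((mul_comm _ _).trans
    (IsLocalization.mk'_spec (Localization.AtPrime P) c (⟨t, ht⟩ : P.primeCompl)))).trans ?_
  rw [← IsScalarTower.algebraMap_apply]

theorem height_eq_one_of_mem_minimalPrimes [IsNoetherianRing A] {d : A} (hd : d ≠ 0) {P : Ideal A}
    (hP : P ∈ (Ideal.span {d}).minimalPrimes) : P.height = 1 := by
  have := hP.1.1
  refine le_antisymm (Ideal.height_le_one_of_isPrincipal_of_mem_minimalPrimes (Ideal.span {d}) P hP) ?_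
  rw [ENat.one_le_iff_ne_zero, Ne, Ideal.height_eq_zero_iff, IsDomain.minimalPrimes_eq_singleton_bot,
    Set.mem_singleton_iff]
  rintro rfl
  exact hd (Ideal.mem_bot.1 (hP.1.2 (Ideal.mem_span_singleton_self d)))

theorem mem_minimalPrimes_of_height_eq_one [IsNoetherianRing A] {d : A} (hd : d ≠ 0) {P : Ideal A} [P.IsPrime]
    (h1 : P.height = 1) (hdP : d ∈ P) : P ∈ (Ideal.span {d}).minimalPrimes := by
  obtain ⟨Q, hQ, hQP⟩ := Ideal.exists_minimalPrimes_le (I := Ideal.span {d}) (J := P) ((Ideal.span_singleton_le_iff_mem _).2 hdP)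
  rcases hQP.eq_or_lt with rfl | hlt
  · exact hQ
  · have := hQ.1.1
    have := Ideal.height_strict_mono_of_isPrime_of_isPrime hlt
    rw [height_eq_one_of_mem_minimalPrimes hd hQ, h1] at this
    exact absurd this (lt_irrefl _)

/-- Partial fractions are glued to one fraction. -/
theorem exists_glue [IsNoetherianRing A] {d : A} (hd : d ≠ 0) (hne : Ideal.span {d} ≠ ⊤)
    (a t : Ideal A → A) (ht : ∀ P ∈ (Ideal.span {d}).minimalPrimes, t P ∉ P) :
    ∃ e num : A, e ≠ 0 ∧ ∀ P ∈ (Ideal.span {d}).minimalPrimes,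
      e ∉ P ∧ InLoc P (ι num / (ι e * ι d) - ι (a P) / (ι (t P) * ι d)) := by
  classical
  have hfin := Ideal.finite_minimalPrimes_of_isNoetherianRing A (Ideal.span {d})
  let M := hfin.toFinset
  have hMp : ∀ P ∈ M, P.IsPrime := fun P hP => (hfin.mem_toFinset.1 hP).1.1
  let Q : Ideal A → Ideal A := fun P => if h : P.IsPrime then
    (Ideal.map (algebraMap A (Localization.AtPrime P (hp := h))) (Ideal.span {d})).comap
      (algebraMap A (Localization.AtPrime P (hp := h))) else ⊤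
  have hQmem : ∀ P ∈ M, ∀ y, y ∈ Q P ↔ ∃ u ∉ P, u * y ∈ Ideal.span {d} := by
    intro P hP y
    have := hMp P hP
    simp only [Q, dif_pos this, Ideal.mem_comap,
      IsLocalization.algebraMap_mem_map_algebraMap_iff P.primeCompl (Localization.AtPrime P)]
    exact Iff.rfl
  have hQle : ∀ P ∈ M, Q P ≤ P := fun P hP y hy => by
    obtain ⟨u, hu, huy⟩ := (hQmem P hP y).1 hy
    exact ((hMp P hP).mem_or_mem ((hfin.mem_toFinset.1 hP).1.2 huy)).resolve_left hu
  have hrad : ∀ P ∈ M, P ≤ (Q P).radical := by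
    intro P hP
    have := hMp P hP
    simp only [Q, dif_pos this]
    rw [← Ideal.comap_radical, ← Ideal.map_le_iff_le_comap, Localization.AtPrime.map_eq_maximalIdeal,
      Ideal.radical_eq_sInf]
    refine le_sInf fun q ⟨hdq, hq⟩ => ?_
    have hqle : q.comap (algebraMap A (Localization.AtPrime P)) ≤ P := fun y hy => by
      by_contra hc
      exact hq.ne_top (Ideal.eq_top_of_isUnit_mem _ hy
        (IsLocalization.map_units (Localization.AtPrime P) (⟨y, hc⟩ : P.primeCompl)))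
    have heq := le_antisymm hqle ((hfin.mem_toFinset.1 hP).2
      ⟨Ideal.IsPrime.comap (hK := hq) _, Ideal.map_le_iff_le_comap.1 hdq⟩ hqle)
    rw [← Localization.AtPrime.map_eq_maximalIdeal]
    exact Ideal.map_le_iff_le_comap.2 heq.ge
  have hex : ∀ P ∈ M, ∃ e ∈ (M.erase P).inf Q, e ∉ P := fun P hP => by
    refine Set.not_subset.1 fun hle => ?_
    obtain ⟨P', hP', hle'⟩ := (Ideal.IsPrime.inf_le' (hMp P hP)).1 hle
    obtain ⟨hne', hP'M⟩ := Finset.mem_erase.1 hP'
    have h1 : P' ≤ P := (hrad P' hP'M).trans ((Ideal.IsPrime.radical_le_iff (hMp P hP)).2 hle')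
    exact hne' (le_antisymm h1 ((hfin.mem_toFinset.1 hP).2 ⟨hMp P' hP'M, (hfin.mem_toFinset.1 hP'M).1.2⟩ h1))
  choose! e he heP using hex
  have heQ : ∀ i ∈ M, ∀ j ∈ M, i ≠ j → e i ∈ Q j := fun i hi j hj hij =>
    Finset.inf_le (f := Q) (Finset.mem_erase.2 ⟨hij.symm, hj⟩) (he i hi)
  set E := ∑ i ∈ M, e i * t i with hE
  have hEP : ∀ P ∈ M, E ∉ P := fun P hP h => by
    rw [hE, ← Finset.add_sum_erase _ _ hP] at h
    have h2 : ∑ i ∈ M.erase P, e i * t i ∈ P := Ideal.sum_mem _ fun i hi =>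
      P.mul_mem_right _ (hQle P hP (heQ i (Finset.mem_erase.1 hi).2 P hP (Finset.mem_erase.1 hi).1))
    exact ((hMp P hP).mem_or_mem ((P.add_mem_iff_left h2).1 h)).elim (heP P hP) (ht P (hfin.mem_toFinset.1 hP))
  obtain ⟨P0, hP0⟩ : M.Nonempty := hfin.toFinset_nonempty.2 (Set.nonempty_coe_sort.1 (Ideal.nonempty_minimalPrimes hne))
  refine ⟨E, ∑ i ∈ M, e i * a i, fun h => hEP P0 hP0 (h ▸ P0.zero_mem), fun P hP => ?_⟩
  have hPM : P ∈ M := hfin.mem_toFinset.2 hP
  refine ⟨hEP P hPM, ?_⟩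
  have hmem : (∑ i ∈ M, e i * a i) * t P - a P * E ∈ Q P := by
    rw [hE, Finset.sum_mul, Finset.mul_sum, ← Finset.sum_sub_distrib]
    refine Ideal.sum_mem _ fun i hi => ?_
    by_cases hiP : i = P
    · subst hiP; rw [show e i * a i * t i - a i * (e i * t i) = 0 by ring]; exact Ideal.zero_mem _
    · rw [show e i * a i * t P - a P * (e i * t i) = e i * (a i * t P - a P * t i) by ring]
      exact Ideal.mul_mem_right _ _ (heQ i hi P hPM hiP)
  obtain ⟨u, hu, hud⟩ := (hQmem P hPM _).1 hmem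
  obtain ⟨w, hw⟩ := Ideal.mem_span_singleton.1 hud
  have := hMp P hPM
  refine ⟨u * E * t P, fun h => ((hMp P hPM).mem_or_mem h).elim
    (fun h' => ((hMp P hPM).mem_or_mem h').elim hu (hEP P hPM)) (ht P hP), w, ?_⟩
  have hEne : ι E ≠ 0 := fun h => hEP P hPM (by rw [IsFractionRing.to_map_eq_zero_iff.1 h]; exact P.zero_mem)
  have htne : ι (t P) ≠ 0 := fun h => ht P hP (by rw [IsFractionRing.to_map_eq_zero_iff.1 h]; exact P.zero_mem)
  have hdne : ι d ≠ 0 := fun h => hd (IsFractionRing.to_map_eq_zero_iff.1 h)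
  have hw' := congrArg (ι ·) hw
  simp only [map_mul, map_sub] at hw' ⊢
  field_simp
  linear_combination hw'

/-- A class `h` modulo `z ↦ z ^ p - z` which is integral at all height one primes is integral. -/
theorem exists_integral_representative [IsRegularLocalRing A] [IsIntegrallyClosed A] (p : ℕ) [hp : Fact p.Prime]
    [CharP A p] (h : L)
    (hloc : ∀ P : Ideal A, P.IsPrime → P.height = 1 → ∃ g : L, InLoc P (h - (g ^ p - g))) :
    ∃ (g : L) (a : A), h - (g ^ p - g) = ι a := by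
  classical
  have : CharP L p := charP_of_injective_algebraMap (IsFractionRing.injective A L) p
  have hwp : ∀ x y : L, (x - y) ^ p - (x - y) = (x ^ p - x) - (y ^ p - y) := fun x y => by
    rw [sub_pow_expChar]; ring
  obtain ⟨⟨b, ⟨d, hd⟩⟩, hb⟩ := IsLocalization.surj (nonZeroDivisors A) h
  replace hd : d ≠ 0 := nonZeroDivisors.ne_zero hd
  have hdne : ι d ≠ 0 := fun h0 => hd (IsFractionRing.to_map_eq_zero_iff.1 h0)
  by_cases htop : Ideal.span {d} = ⊤
  · obtain ⟨d', hd'⟩ := isUnit_iff_exists_inv.1 (Ideal.span_singleton_eq_top.1 htop)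
    refine ⟨0, b * d', ?_⟩
    have hb' : h * ι d = ι b := hb
    have hd'' := congrArg (ι ·) hd'
    simp only [map_mul, map_one] at hd''
    rw [zero_pow hp.out.ne_zero, sub_zero, sub_zero, map_mul]
    linear_combination ι d' * hb' - h * hd''
  -- the partial fractions
  have hex : ∀ P ∈ (Ideal.span {d}).minimalPrimes, ∃ a t : A, t ∉ P ∧
      InLoc P (h - ((ι a / (ι t * ι d)) ^ p - ι a / (ι t * ι d))) := by
    intro P hP
    have := hP.1.1
    obtain ⟨g, t0, ht0, c0, hc0⟩ := hloc P hP.1.1 (height_eq_one_of_mem_minimalPrimes hd hP)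
    have hint : IsIntegral A (ι (t0 * d) * g) := by
      refine ⟨Polynomial.X ^ p - (Polynomial.C ((t0 * d) ^ (p - 1)) * Polynomial.X +
        Polynomial.C (t0 ^ p * d ^ (p - 1) * b - t0 ^ (p - 1) * d ^ p * c0)), ?_, ?_⟩
      · refine Polynomial.monic_X_pow_sub ?_
        refine lt_of_le_of_lt (Polynomial.degree_linear_le) ?_
        exact_mod_cast hp.out.one_lt
      · have hb' : h * ι d = ι b := hb
        obtain ⟨q, hq⟩ : ∃ q, p = q + 1 := ⟨p - 1, (Nat.sub_add_cancel hp.out.one_le).symm⟩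
        have hq' : p - 1 = q := by omega
        simp only [Polynomial.eval₂_sub, Polynomial.eval₂_add, Polynomial.eval₂_mul, Polynomial.eval₂_pow,
          Polynomial.eval₂_X, Polynomial.eval₂_C, map_mul, map_pow, map_sub, hq']
        rw [hq] at hc0 ⊢
        linear_combination (-(ι t0 ^ q * ι d ^ (q + 1))) * hc0 + (ι t0 ^ (q + 1) * ι d ^ q) * hb'
    obtain ⟨a, ha⟩ := IsIntegrallyClosed.isIntegral_iff.1 hint
    refine ⟨a, t0, ht0, t0, ht0, c0, ?_⟩
    have ht0ne : ι t0 ≠ 0 := fun h0 => ht0 (by rw [IsFractionRing.to_map_eq_zero_iff.1 h0]; exact P.zero_mem)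
    have : ι a / (ι t0 * ι d) = g := by rw [ha, map_mul]; field_simp
    rw [this]; exact hc0
  choose! a t ht hgP using hex
  obtain ⟨s, x, hs, hglue⟩ := exists_glue hd htop a t ht
  have hsne : ι s ≠ 0 := fun h0 => hs (IsFractionRing.to_map_eq_zero_iff.1 h0)
  set g := ι x / (ι s * ι d) with hg
  have hmin : ∀ P ∈ (Ideal.span {d}).minimalPrimes, InLoc P (h - (g ^ p - g)) := by
    intro P hP
    have := hP.1.1
    have h2 := (hglue P hP).2
    have : h - (g ^ p - g) = (h - ((ι (a P) / (ι (t P) * ι d)) ^ p - ι (a P) / (ι (t P) * ι d))) -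
        ((g - ι (a P) / (ι (t P) * ι d)) ^ p - (g - ι (a P) / (ι (t P) * ι d))) := by rw [hwp]; ring
    rw [this]
    exact (hgP P hP).sub ((h2.pow p).sub h2)
  -- clear denominators
  obtain ⟨a0, ha0⟩ := exists_of_forall_inLoc (ι s ^ p * (h - (g ^ p - g))) (by
    intro P hP h1
    by_cases hdP : d ∈ P
    · rw [← map_pow]
      exact (inLoc_algebraMap (s ^ p)).mul (hmin P (mem_minimalPrimes_of_height_eq_one hd h1 hdP))
    · refine ⟨d ^ p, fun hh => hdP (hP.mem_of_pow_mem p hh),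
        s ^ p * d ^ (p - 1) * b - x ^ p + s ^ (p - 1) * d ^ (p - 1) * x, ?_⟩
      have hb' : h * ι d = ι b := hb
      obtain ⟨q, hq⟩ : ∃ q, p = q + 1 := ⟨p - 1, (Nat.sub_add_cancel hp.out.one_le).symm⟩
      simp only [map_add, map_sub, map_mul, map_pow, hg, hq, Nat.add_sub_cancel, div_pow, ← hb']
      field_simp
      ring)
  have hxp : x ^ p = s ^ p * (d ^ (p - 1) * b) + (s * d) ^ (p - 1) * x - d ^ p * a0 := by
    apply IsFractionRing.injective A L
    have hb' : h * ι d = ι b := hb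
    obtain ⟨q, hq⟩ : ∃ q, p = q + 1 := ⟨p - 1, (Nat.sub_add_cancel hp.out.one_le).symm⟩
    simp only [map_add, map_sub, map_mul, map_pow, hg, hq, Nat.add_sub_cancel, div_pow, ← hb', ha0]
    field_simp
    ring
  have hx : x ∈ Ideal.span {s, d} := by
    refine mem_of_colon_frobenius p _ (Ideal.subset_span (Set.mem_insert s _)) hs x fun j hj => ?_
    obtain ⟨α, β, hab⟩ := Ideal.mem_span_pair.1 (Submodule.mem_colon_singleton.1 hj)
    obtain ⟨q, hq⟩ : ∃ q, p = q + 1 := ⟨p - 1, (Nat.sub_add_cancel hp.out.one_le).symm⟩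
    have hF : ∀ y ∈ ({s, d} : Set A), y ^ p ∈ (Ideal.span {s, d}).map (frobenius A p) := fun y hy => by
      have := Ideal.mem_map_of_mem (frobenius A p) (Ideal.subset_span hy)
      rwa [frobenius_def] at this
    have h3 : j * x ^ p = s ^ p * (j * (d ^ (p - 1) * b) + d ^ (p - 1) * α) +
        d ^ p * (s ^ (p - 1) * β - j * a0) := by
      rw [hxp]
      simp only [hq, Nat.add_sub_cancel, smul_eq_mul] at hab ⊢
      linear_combination (-(s ^ q * d ^ q)) * hab
    rw [h3]
    exact Ideal.add_mem _ (Ideal.mul_mem_right _ _ (hF s (Set.mem_insert _ _)))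
      (Ideal.mul_mem_right _ _ (hF d (Set.mem_insert_of_mem _ rfl)))
  obtain ⟨α, β, hab⟩ := Ideal.mem_span_pair.1 hx
  refine ⟨ι α / ι d, ?_⟩
  obtain ⟨c, hc⟩ := exists_of_forall_inLoc (h - ((ι α / ι d) ^ p - ι α / ι d)) fun P hP h1 => by
    by_cases hdP : d ∈ P
    · have hPm := mem_minimalPrimes_of_height_eq_one hd h1 hdP
      have hβ : InLoc P (ι β / ι s) := inLoc_div β (hglue P hPm).1
      have hsum : g - ι β / ι s = ι α / ι d := by
        rw [hg, ← hab, map_add, map_mul, map_mul]; field_simp; ring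
      rw [← hsum, hwp]
      have := (hmin P hPm).add ((hβ.pow p).sub hβ)
      rwa [show h - (g ^ p - g - ((ι β / ι s) ^ p - ι β / ι s)) =
        h - (g ^ p - g) + ((ι β / ι s) ^ p - ι β / ι s) by ring]
    · have hbd : h = ι b / ι d := by
        rw [eq_div_iff hdne]; exact hb
      rw [hbd]
      exact (inLoc_div b hdP).sub (((inLoc_div α hdP).pow p).sub (inLoc_div α hdP))
  exact ⟨c, hc.symm⟩

end Groth.Agent.ASPurity
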