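import Mathlib
import Groth.Agent.S9829
import Groth.Agent.ASPurity.Descend

/-!
# Extension of automorphisms of the invariant ring of a `p`-cyclic action unramified off the closed point
-/

set_option autoImplicit false

universe u v w

open IsLocalRing Polynomial

namespace Groth.Agent.ASPurity

theorem exists_eq_add_of_pow_sub {L : Type*} [Field L] (p : ℕ) [hp : Fact p.Prime] [CharP L p] {r β : L}
    (h : r ^ p - r = β ^ p - β) : ∃ i : ZMod p, r = β + ZMod.castHom dvd_rfl L i := by
  classical
  let s : Finset L := Finset.univ.image (ZMod.castHom (dvd_refl p) L)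
  have hs : s.card = p := by
    rw [Finset.card_image_of_injective _ (ZMod.castHom (dvd_refl p) L).injective, Finset.card_univ, ZMod.card]
  have hsub : s ⊆ (X ^ p - X : L[X]).roots.toFinset := by
    intro x hx
    obtain ⟨i, -, rfl⟩ := Finset.mem_image.1 hx
    rw [Multiset.mem_toFinset, mem_roots (FiniteField.X_pow_card_sub_X_ne_zero L hp.out.one_lt)]
    simp only [IsRoot, eval_sub, eval_pow, eval_X]
    rw [← map_pow, ZMod.pow_card, sub_self]
  have heq : s = (X ^ p - X : L[X]).roots.toFinset := by
    refine Finset.eq_of_subset_of_card_le hsub ?_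
    rw [hs]
    refine (Multiset.toFinset_card_le _).trans ((card_roots' _).trans (le_of_eq ?_))
    exact FiniteField.X_pow_card_sub_X_natDegree_eq L hp.out.one_lt
  have : r - β ∈ (X ^ p - X : L[X]).roots.toFinset := by
    rw [Multiset.mem_toFinset, mem_roots (FiniteField.X_pow_card_sub_X_ne_zero L hp.out.one_lt)]
    simp only [IsRoot, eval_sub, eval_pow, eval_X, sub_pow_expChar]
    linear_combination h
  rw [← heq] at this
  obtain ⟨i, -, hi⟩ := Finset.mem_image.1 this
  exact ⟨i, by rw [hi]; ring⟩

/-- Without cyclic extensions of degree `p`, every element is `b ^ p - b`. -/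
theorem exists_root_of_no_galois {k : Type v} [Field k] (p : ℕ) [hp : Fact p.Prime] [CharP k p]
    (hkp : ∀ (L : Type v) [Field L] [Algebra k L], IsGalois k L → Module.finrank k L ≠ p) (c : k) :
    ∃ b : k, b ^ p - b = c := by
  classical
  by_contra hno
  let f : k[X] := X ^ p - X - C c
  have hsep : f.Separable := by
    refine ⟨0, -1, ?_⟩
    simp [f, derivative_X_pow, CharP.cast_eq_zero]
  let L := f.SplittingField
  have hgal : IsGalois k L := IsGalois.of_separable_splitting_field hsep
  have : CharP L p := charP_of_injective_algebraMap (algebraMap k L).injective p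
  have hdeg : f.natDegree = p := by
    have : (X + C c : k[X]).degree < (p : ℕ) := by
      rw [degree_X_add_C]; exact_mod_cast hp.out.one_lt
    rw [show f = X ^ p - (X + C c) by simp only [f]; ring]
    exact natDegree_eq_of_degree_eq_some (by
      rw [degree_sub_eq_left_of_degree_lt (by rw [degree_X_pow]; exact this), degree_X_pow])
  obtain ⟨β, hβ⟩ : ∃ β : L, aeval β f = 0 := by
    obtain ⟨β, hβ⟩ := (SplittingField.splits f).exists_eval_eq_zero (by
      rw [degree_map, degree_eq_natDegree (fun h => by rw [h, natDegree_zero] at hdeg; exact hp.out.ne_zero hdeg.symm), hdeg]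
      exact_mod_cast hp.out.ne_zero)
    exact ⟨β, by rwa [aeval_def, eval₂_eq_eval_map]⟩
  have hroot : ∀ r : L, aeval r f = 0 ↔ r ^ p - r = β ^ p - β := by
    intro r
    have hb : β ^ p - β = algebraMap k L c := by simpa [f, sub_eq_zero] using hβ
    rw [hb]
    simp [f, sub_eq_zero]
  have hσ : ∀ σ : L ≃ₐ[k] L, ∃ i : ZMod p, σ β = β + ZMod.castHom dvd_rfl L i := fun σ =>
    exists_eq_add_of_pow_sub p ((hroot _).1 ((aeval_algHom_apply σ.toAlgHom β f).trans (by rw [hβ]; simp)))
  choose i hi using hσ
  have hmul : ∀ σ τ : L ≃ₐ[k] L, i (σ * τ) = i σ + i τ := fun σ τ => by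
    apply (ZMod.castHom (dvd_refl p) L).injective
    have h1 := hi (σ * τ)
    rw [AlgEquiv.mul_apply, hi τ, map_add, hi σ, ZMod.castHom_apply (R := L) (i τ)] at h1
    have hfix : σ ((ZMod.cast (i τ)) : L) = (ZMod.cast (i τ) : L) := by
      rw [← ZMod.natCast_val, map_natCast]
    rw [hfix] at h1
    rw [map_add]
    simp only [ZMod.castHom_apply] at h1 ⊢
    linear_combination -h1
  let Φ : (L ≃ₐ[k] L) →* Multiplicative (ZMod p) :=
    MonoidHom.mk' (fun σ => Multiplicative.ofAdd (i σ)) fun σ τ => by rw [hmul, ofAdd_add]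
  have hΦ : Function.Injective Φ := by
    intro σ τ h
    have h' : i σ = i τ := h
    have htop : Algebra.adjoin k (f.rootSet L) = ⊤ := SplittingField.adjoin_rootSet f
    have : σ.toAlgHom = τ.toAlgHom := AlgHom.ext_of_adjoin_eq_top htop fun r hr => by
      obtain ⟨j, rfl⟩ := exists_eq_add_of_pow_sub p ((hroot r).1 (mem_rootSet'.1 hr).2)
      change σ (β + _) = τ (β + _)
      rw [map_add, map_add, hi, hi, h', ZMod.castHom_apply (R := L) j, ← ZMod.natCast_val, map_natCast, map_natCast]
    exact AlgEquiv.ext fun x => DFunLike.congr_fun this x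
  have hcard : Nat.card (L ≃ₐ[k] L) = Module.finrank k L := IsGalois.card_aut_eq_finrank k L
  have hdvd : Nat.card (L ≃ₐ[k] L) ∣ p := by
    rw [Nat.card_congr (MonoidHom.ofInjective hΦ).toEquiv]
    have := Subgroup.card_subgroup_dvd_card Φ.range
    rwa [Nat.card_eq_fintype_card (α := Multiplicative (ZMod p)), Fintype.card_multiplicative, ZMod.card] at this
  rcases (Nat.dvd_prime hp.out).1 hdvd with h1 | h1
  · rw [hcard] at h1
    have htop := (Subalgebra.bot_eq_top_of_finrank_eq_one h1).ge (Algebra.mem_top (x := β))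
    obtain ⟨b, hb⟩ := Algebra.mem_bot.1 htop
    refine hno ⟨b, (algebraMap k L).injective ?_⟩
    have hb' : β ^ p - β = algebraMap k L c := by simpa [f, sub_eq_zero] using hβ
    rw [map_sub, map_pow, hb, hb']
  · exact hkp L hgal (hcard ▸ h1)

/-- `a ∈ ℘ A` for a henselian ring with Artin–Schreier closed residue field. -/
theorem exists_pow_sub_eq {A : Type u} [CommRing A] [IsLocalRing A] (p : ℕ) [hp : Fact p.Prime] [CharP A p]
    [HenselianRing A (maximalIdeal A)]
    (hres : ∀ a : A, ∃ r : A, a - (r ^ p - r) ∈ maximalIdeal A) (a : A) : ∃ r : A, r ^ p - r = a := by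
  obtain ⟨r0, hr0⟩ := hres a
  obtain ⟨r, hr, -⟩ := HenselianRing.is_henselian (I := maximalIdeal A) (X ^ p - X - C a) (by
      rw [show (X ^ p - X - C a : A[X]) = X ^ p - (X + C a) by ring]
      refine monic_X_pow_sub ?_
      rw [degree_X_add_C]; exact_mod_cast hp.out.one_lt) r0 (by
      simp only [eval_sub, eval_pow, eval_X, eval_C]
      rw [show r0 ^ p - r0 - a = -(a - (r0 ^ p - r0)) by ring]
      exact neg_mem hr0) (by
      simp [derivative_X_pow, CharP.cast_eq_zero])
  refine ⟨r, ?_⟩
  have := hr.eq_zero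
  simp only [eval_sub, eval_pow, eval_X, eval_C, sub_eq_zero] at this
  exact this

section Action

variable {A : Type u} [CommRing A] {G : Type w} [Group G] [MulSemiringAction G A]

theorem exists_trace_notMem [IsLocalRing A] [Finite G] [Fintype G]
    (hram : ∀ P : Ideal A, P.IsPrime → P ≠ maximalIdeal A → P.inertia G = ⊥)
    (P : Ideal A) [hP : P.IsPrime] (hPm : P ≠ maximalIdeal A) : ∃ w : A, ∑ σ : G, σ • w ∉ P := by
  by_contra hc
  push Not at hc
  let f : G → (A →* (A ⧸ P)) := fun σ =>
    ((Ideal.Quotient.mk P).comp (MulSemiringAction.toRingHom G A σ)).toMonoidHom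
  have hf : Function.Injective f := by
    intro σ τ hst
    have hP' : (P.comap (MulSemiringAction.toRingHom G A τ)).IsPrime := Ideal.IsPrime.comap (hK := hP) _
    have hne : P.comap (MulSemiringAction.toRingHom G A τ) ≠ maximalIdeal A := fun h => hPm <| by
      refine ((maximalIdeal.isMaximal A).eq_of_le hP.ne_top fun a ha => ?_).symm
      have h1 : τ⁻¹ • a ∈ maximalIdeal A := fun hu => ha (by
        simpa using hu.map (MulSemiringAction.toRingHom G A τ))
      rw [← h, Ideal.mem_comap] at h1
      simpa using h1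
    have hmem : τ⁻¹ * σ ∈ (P.comap (MulSemiringAction.toRingHom G A τ)).inertia G := by
      intro a
      change MulSemiringAction.toRingHom G A τ ((τ⁻¹ * σ) • a - a) ∈ P
      rw [MulSemiringAction.toRingHom_apply, smul_sub, mul_smul, smul_inv_smul]
      exact (Ideal.Quotient.mk_eq_mk_iff_sub_mem _ _).1 (DFunLike.congr_fun hst a)
    rw [hram _ hP' hne, Subgroup.mem_bot, inv_mul_eq_one] at hmem
    exact hmem.symm
  have hli := (linearIndependent_monoidHom A (A ⧸ P)).comp f hf
  have := Fintype.linearIndependent_iff.1 hli (fun _ => 1) (by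
    refine funext fun w => ?_
    simp only [Finset.sum_apply, Function.comp_apply, one_smul, Pi.zero_apply]
    rw [← Ideal.Quotient.eq_zero_iff_mem.2 (hc w), map_sum]
    rfl) 1
  exact one_ne_zero this

theorem exists_shift [IsLocalRing A] [Fintype G] (p : ℕ) [Fact p.Prime] [CharP A p] (χ : G → ZMod p)
    (hχ : ∀ σ τ, χ (σ * τ) = χ σ + χ τ)
    (hram : ∀ P : Ideal A, P.IsPrime → P ≠ maximalIdeal A → P.inertia G = ⊥)
    (P : Ideal A) [P.IsPrime] (hPm : P ≠ maximalIdeal A) :
    ∃ t z : A, t ∉ P ∧ (∀ σ : G, σ • t = t) ∧ ∀ σ : G, σ • z = z + ZMod.castHom dvd_rfl A (χ σ) * t := by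
  classical
  obtain ⟨w, hw⟩ := exists_trace_notMem hram P hPm
  have hc : ∀ (σ : G) (i : ZMod p), σ • ZMod.castHom dvd_rfl A i = ZMod.castHom dvd_rfl A i := fun σ i => by
    change MulSemiringAction.toRingHom G A σ _ = _
    exact RingHom.congr_fun (RingHom.ext_zmod ((MulSemiringAction.toRingHom G A σ).comp (ZMod.castHom dvd_rfl A))
      (ZMod.castHom dvd_rfl A)) i
  refine ⟨∑ τ : G, τ • w, -∑ τ : G, ZMod.castHom dvd_rfl A (χ τ) * τ • w, hw, fun σ => ?_, fun σ => ?_⟩
  · rw [Finset.smul_sum]
    simp_rw [smul_smul]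
    exact Equiv.sum_comp (Equiv.mulLeft σ) (fun τ => τ • w)
  · rw [smul_neg, Finset.smul_sum, Finset.mul_sum, ← Equiv.sum_comp (Equiv.mulLeft σ)
      (fun τ => ZMod.castHom dvd_rfl A (χ τ) * τ • w), ← Equiv.sum_comp (Equiv.mulLeft σ)
      (fun τ => ZMod.castHom dvd_rfl A (χ σ) * τ • w), ← Finset.sum_neg_distrib, ← Finset.sum_neg_distrib,
      ← Finset.sum_add_distrib]
    refine Finset.sum_congr rfl fun τ _ => ?_
    simp only [Equiv.coe_mulLeft, smul_mul', hc, smul_smul, hχ, map_add]
    ring

end Action

variable {A : Type u} [CommRing A] [IsRegularLocalRing A] (p : ℕ) [Fact p.Prime] [CharP A p]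
  [IsAdicComplete (maximalIdeal A) A] {k : Type v} [Field k] [Algebra k A]
  {G : Type w} [Group G] [Finite G] [MulSemiringAction G A] [SMulCommClass G k A]

theorem exists_ringHom_extension (hdim : 2 ≤ ringKrullDim A)
    (hk : Function.Surjective (residue A ∘ algebraMap k A))
    (hkp : ∀ (L : Type v) [Field L] [Algebra k L], IsGalois k L → Module.finrank k L ≠ p)
    (hcard : Nat.card G = p)
    (hram : ∀ P : Ideal A, P.IsPrime → P ≠ maximalIdeal A → P.inertia G = ⊥)
    (φ : FixedPoints.subalgebra k A G ≃ₐ[k] FixedPoints.subalgebra k A G) :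
    ∃ ψ : A →+* A, Function.Injective ψ ∧ ∀ x : FixedPoints.subalgebra k A G, ψ x = φ x := by
  classical
  have hdom : IsDomain A := RegLoc.isDomain A
  have hnorm : IsIntegrallyClosed A := Groth.Agent.S9829.result A
  have : CharP k p := RingHom.charP (algebraMap k A) (algebraMap k A).injective p
  have : Fintype G := Fintype.ofFinite G
  set L := FractionRing A
  set ι := algebraMap A L
  have hιinj : Function.Injective ι := IsFractionRing.injective A L
  have : CharP L p := charP_of_injective_algebraMap hιinj p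
  letI : MulSemiringAction G L := IsFractionRing.mulSemiringAction G A L
  have hsm : ∀ (σ : G) (a : A), σ • ι a = ι (σ • a) := fun σ a => (algebraMap.coe_smul' σ a L).symm
  have hcyc : IsCyclic G := isCyclic_of_prime_card hcard
  let e : G ≃* Multiplicative (ZMod p) := mulEquivOfCyclicCardEq (by
    rw [hcard, Nat.card_eq_fintype_card, Fintype.card_multiplicative, ZMod.card])
  let χ : G → ZMod p := fun σ => (e σ).toAdd
  have hχ : ∀ σ τ, χ (σ * τ) = χ σ + χ τ := fun σ τ => by simp [χ]
  have hbot : (⊥ : Ideal A) ≠ maximalIdeal A := by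
    intro h
    have hF : IsField A := (IsLocalRing.isField_iff_maximalIdeal_eq (R := A)).2 h.symm
    rw [ringKrullDim_eq_zero_of_isField hF] at hdim
    exact absurd hdim (by norm_num)
  -- the shifts
  have hshift : ∀ (P : Ideal A), P.IsPrime → P ≠ maximalIdeal A → ∃ t z : A, t ∉ P ∧ (∀ σ : G, σ • t = t) ∧
      ∀ σ : G, σ • (ι z / ι t) = ι z / ι t + ZMod.castHom dvd_rfl L (χ σ) := by
    intro P hP hPm
    obtain ⟨t, z, ht, htf, hz⟩ := exists_shift p χ hχ hram P hPm
    refine ⟨t, z, ht, htf, fun σ => ?_⟩
    have htne : ι t ≠ 0 := fun h => ht (by rw [IsFractionRing.to_map_eq_zero_iff.1 h]; exact P.zero_mem)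
    have hcast : ι (ZMod.castHom dvd_rfl A (χ σ)) = ZMod.castHom dvd_rfl L (χ σ) :=
      RingHom.congr_fun (RingHom.ext_zmod (ι.comp (ZMod.castHom dvd_rfl A)) (ZMod.castHom dvd_rfl L)) _
    rw [smul_div₀', hsm, hsm, htf, hz, map_add, map_mul, hcast, add_div, mul_div_cancel_right₀ _ htne]
  obtain ⟨t₀, z₀, ht₀, htf₀, hy₀⟩ := hshift ⊥ Ideal.isPrime_bot hbot
  set y := ι z₀ / ι t₀ with hy
  let K := FixedPoints.subfield G L
  have hfaith : FaithfulSMul G L := ⟨fun {σ τ} h => e.injective (by
    have h1 := h y
    rw [hy₀, hy₀, add_right_inj] at h1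
    exact congrArg Multiplicative.ofAdd ((ZMod.castHom dvd_rfl L).injective h1))⟩
  have hfix : ∀ (σ : G) (x : L), (∀ τ : G, τ • x = x + ZMod.castHom dvd_rfl L (χ τ)) → σ • (x ^ p - x) = x ^ p - x := by
    intro σ x hx
    rw [smul_sub, smul_pow', hx, add_pow_expChar, ← map_pow, ZMod.pow_card]; ring
  let f : K := ⟨y ^ p - y, fun σ => hfix σ y hy₀⟩
  -- the fraction field of the invariants
  let B := FixedPoints.subalgebra k A G
  let jB : B →+* K :=
    { toFun := fun b => ⟨ι b, fun σ => by rw [hsm, b.2 σ]⟩
      map_one' := Subtype.ext (map_one ι)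
      map_mul' := fun a b => Subtype.ext (map_mul ι _ _)
      map_zero' := Subtype.ext (map_zero ι)
      map_add' := fun a b => Subtype.ext (map_add ι _ _) }
  letI : Algebra B K := jB.toAlgebra
  have hjinj : Function.Injective jB := fun a b h => Subtype.ext (hιinj (congrArg Subtype.val h))
  have : FaithfulSMul B K := (faithfulSMul_iff_algebraMap_injective B K).2 hjinj
  have : IsFractionRing B K := IsFractionRing.of_field B K fun x => by
    obtain ⟨⟨a, ⟨d, hd⟩⟩, had⟩ := IsLocalization.surj (nonZeroDivisors A) (x : L)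
    replace hd : d ≠ 0 := nonZeroDivisors.ne_zero hd
    have hd' : ∀ σ : G, σ • d ≠ 0 := fun σ h => hd (by simpa using congrArg (σ⁻¹ • ·) h)
    let D := ∏ σ : G, σ • d
    have hD : ∀ τ : G, τ • D = D := fun τ => by
      simp only [D, Finset.smul_prod', smul_smul]
      exact Equiv.prod_comp (Equiv.mulLeft τ) (fun σ => σ • d)
    have hD0 : D ≠ 0 := Finset.prod_ne_zero_iff.2 fun σ _ => hd' σ
    let a' := a * ∏ σ ∈ Finset.univ.erase (1 : G), σ • d
    have ha' : (x : L) * ι D = ι a' := by
      have : D = d * ∏ σ ∈ Finset.univ.erase (1 : G), σ • d := by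
        simp only [D]
        rw [← Finset.mul_prod_erase _ _ (Finset.mem_univ (1 : G)), one_smul]
      rw [this, map_mul, map_mul, ← mul_assoc]
      exact congrArg (· * _) had
    have ha'f : ∀ τ : G, τ • a' = a' := fun τ => hιinj (by
      rw [← hsm, ← ha', smul_mul', hsm, hD, x.2 τ])
    refine ⟨⟨a', ha'f⟩, ⟨D, hD⟩, Subtype.ext ?_⟩
    have hD1 : ι D ≠ 0 := fun h => hD0 (IsFractionRing.to_map_eq_zero_iff.1 h)
    simp only [RingHom.algebraMap_toAlgebra]
    change (x : L) = ι a' / ι D
    rw [eq_div_iff hD1, ha']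
  let φK : K →+* K := IsFractionRing.lift (g := jB.comp φ.toAlgHom.toRingHom) (hjinj.comp φ.injective)
  have hφK : ∀ b : B, φK (jB b) = jB (φ b) := fun b => IsFractionRing.lift_algebraMap _ b
  have hcard' : Module.finrank K L = p := by
    rw [FixedPoints.finrank_eq_card G L, ← Nat.card_eq_fintype_card, hcard]
  have hint : Algebra.IsIntegral B A := by
    refine ⟨fun a => ?_⟩
    haveI : Algebra.IsInvariant B A G := ⟨fun a ha => ⟨⟨a, ha⟩, rfl⟩⟩
    have := Algebra.IsInvariant.isIntegral B A G
    exact this.isIntegral a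
  -- the transported class is a value of `z ↦ z ^ p - z`
  have hAS : ∃ y' : L, y' ^ p - y' = (φK f : L) := by
    have hloc : ∀ P : Ideal A, P.IsPrime → P.height = 1 →
        ∃ g : L, InLoc P ((φK f : L) - (g ^ p - g)) := by
      intro P hP h1
      have hPm : P ≠ maximalIdeal A := by
        rintro rfl
        rw [← IsLocalRing.maximalIdeal_height_eq_ringKrullDim, h1] at hdim
        exact absurd hdim (by norm_num)
      set q := P.comap (algebraMap B A) with hq
      set q' := q.comap φ.toAlgHom.toRingHom with hq'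
      have hq'p : q'.IsPrime := Ideal.IsPrime.comap (hK := Ideal.IsPrime.comap (hK := hP) _) _
      obtain ⟨P', -, hP'p, hP'⟩ := Ideal.exists_ideal_over_prime_of_isIntegral (S := A) q' ⊥ (fun b hb => by
        have : (b : A) = 0 := hb
        obtain rfl : b = 0 := Subtype.ext this
        exact q'.zero_mem)
      have hP'm : P' ≠ maximalIdeal A := by
        intro h
        have h3 : P'.IsMaximal := h ▸ maximalIdeal.isMaximal A
        have h4 : q'.IsMaximal := hP' ▸ Ideal.isMaximal_comap_of_isIntegral_of_isMaximal P'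
        have h5 : q.IsMaximal := by
          have : q = Ideal.map φ.toAlgHom.toRingHom q' := (Ideal.map_comap_of_surjective _ φ.surjective q).symm
          rw [this]
          exact (Ideal.map_eq_top_or_isMaximal_of_surjective _ φ.surjective h4).resolve_left fun h =>
            (Ideal.IsPrime.comap (hK := hP) (algebraMap B A)).ne_top (this.trans h)
        exact hPm ((IsLocalRing.eq_maximalIdeal (Ideal.isMaximal_of_isIntegral_of_isMaximal_comap P h5)))
      obtain ⟨t, z, ht, htf, hz⟩ := hshift P' hP'p hP'm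
      let g : K := ⟨y - ι z / ι t, fun σ => by rw [smul_sub, hy₀, hz]; ring⟩
      let N : A := z ^ p - t ^ (p - 1) * z
      have htne : ι t ≠ 0 := fun h => ht (by rw [IsFractionRing.to_map_eq_zero_iff.1 h]; exact P'.zero_mem)
      have hN : ι t ^ p * ((f : L) - ((g : L) ^ p - g)) = ι N := by
        have : (f : L) - ((g : L) ^ p - g) = (ι z / ι t) ^ p - ι z / ι t := by
          change (y ^ p - y) - ((y - ι z / ι t) ^ p - (y - ι z / ι t)) = _
          rw [sub_pow_expChar]; ring
        rw [this]
        obtain ⟨m, hm⟩ : ∃ m, p = m + 1 := ⟨p - 1, (Nat.sub_add_cancel (Fact.out : p.Prime).one_le).symm⟩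
        simp only [N, hm, Nat.add_sub_cancel, map_sub, map_mul, map_pow, div_pow]
        rw [mul_sub, mul_div_cancel₀ _ (pow_ne_zero _ htne), pow_succ (ι t), mul_assoc, mul_div_cancel₀ _ htne]
      have hNf : ∀ σ : G, σ • N = N := fun σ => hιinj (by
        rw [← hsm, ← hN, smul_mul', smul_pow', hsm, htf, smul_sub, (show σ • (f : L) = f from f.2 σ), smul_sub, smul_pow',
          (show σ • (g : L) = g from g.2 σ)])
      let T : B := ⟨t ^ p, fun σ => by rw [smul_pow', htf]⟩
      have hK : jB T * (f - (g ^ p - g)) = jB ⟨N, hNf⟩ := Subtype.ext (by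
        change ι (t ^ p) * ((f : L) - ((g : L) ^ p - g)) = ι N
        rw [map_pow, hN])
      refine ⟨(φK g : L), (φ T : A), fun h => ht (hP'p.mem_of_pow_mem p ?_), (φ ⟨N, hNf⟩ : A), ?_⟩
      · have : T ∈ q' := h
        rw [← hP'] at this
        exact this
      · have := congrArg φK hK
        rw [map_mul, map_sub, map_sub, map_pow, hφK, hφK] at this
        exact congrArg Subtype.val this
    obtain ⟨g, a, ha⟩ := exists_integral_representative p (φK f : L) hloc
    have hres : ∀ a : A, ∃ r : A, a - (r ^ p - r) ∈ maximalIdeal A := by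
      intro a
      obtain ⟨c, hc⟩ := hk (residue A a)
      obtain ⟨b, hb⟩ := exists_root_of_no_galois p hkp c
      refine ⟨algebraMap k A b, ?_⟩
      rw [← residue_eq_zero_iff, map_sub, ← map_pow, ← map_sub (algebraMap k A), hb, sub_eq_zero]
      exact hc.symm
    obtain ⟨r, hr⟩ := exists_pow_sub_eq p hres a
    refine ⟨g + ι r, ?_⟩
    rw [add_pow_expChar, ← map_pow]
    have : ι (r ^ p) - ι r = ι a := by rw [← map_sub, hr]
    linear_combination this - ha
  obtain ⟨y', hy'⟩ := hAS
  -- extend
  have hadj : IntermediateField.adjoin K {y} = ⊤ := by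
    have hprime : (Module.finrank K L).Prime := hcard'.symm ▸ Fact.out
    have := IntermediateField.isSimpleOrder_of_finrank_prime K L hprime
    refine (eq_bot_or_eq_top (IntermediateField.adjoin K {y})).resolve_left fun h => ?_
    rw [IntermediateField.adjoin_simple_eq_bot_iff, IntermediateField.mem_bot] at h
    obtain ⟨c, hc⟩ := h
    let σ := e.symm (Multiplicative.ofAdd 1)
    have h1 := hy₀ σ
    rw [← hc] at h1
    rw [show σ • (algebraMap K L c) = algebraMap K L c from c.2 σ, left_eq_add] at h1
    simp [χ, σ] at h1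
  have : FiniteDimensional K L := Module.finite_of_finrank_pos (hcard'.symm ▸ (Fact.out : p.Prime).pos)
  obtain ⟨Ψ, hΨ⟩ : ∃ Ψ : L →+* L, ∀ c : K, Ψ c = (φK c : L) := by
    have aux : ∀ (M : Type u) [Field M] [CharP M p] (j : K →+* M) (y'' : M), y'' ^ p - y'' = j f →
        ∃ Ψ : L →+* M, ∀ c : K, Ψ c = j c := by
      intro M _ _ j y'' hy''
      letI := j.toAlgebra
      let F : K[X] := X ^ p - X - C f
      have hFy : aeval y F = 0 := by
        simp only [F, map_sub, map_pow, aeval_X, aeval_C]
        exact sub_self _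
      have hsplit : (F.map (algebraMap K M)).Splits := by
        have hdegF : (F.map (algebraMap K M)).natDegree = p := by
          have : (X + C f : K[X]).degree < (p : ℕ) := by
            rw [degree_X_add_C]; exact_mod_cast (Fact.out : p.Prime).one_lt
          rw [natDegree_map, show F = X ^ p - (X + C f) by simp only [F]; ring]
          exact natDegree_eq_of_degree_eq_some (by
            rw [degree_sub_eq_left_of_degree_lt (by rw [degree_X_pow]; exact this), degree_X_pow])
        refine splits_iff_card_roots.2 (le_antisymm (card_roots' _) ?_)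
        rw [hdegF]
        have hne : F.map (algebraMap K M) ≠ 0 := fun h => by
          rw [h, natDegree_zero] at hdegF; exact (Fact.out : p.Prime).ne_zero hdegF.symm
        let emb : ZMod p ↪ M := ⟨fun i => y'' + ZMod.castHom dvd_rfl M i, fun a b h =>
          (ZMod.castHom dvd_rfl M).injective (add_left_cancel h)⟩
        have hsub : (Finset.univ.map emb).val ⊆ (F.map (algebraMap K M)).roots := fun r hr => by
          rw [Finset.mem_val, Finset.mem_map] at hr
          obtain ⟨i, -, rfl⟩ := hr
          rw [mem_roots hne]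
          simp only [F, IsRoot, Polynomial.map_sub, Polynomial.map_pow, map_X, map_C, eval_sub, eval_pow, eval_X,
            eval_C]
          change (y'' + ZMod.castHom dvd_rfl M i) ^ p - (y'' + ZMod.castHom dvd_rfl M i) - algebraMap K M f = 0
          rw [add_pow_expChar, ← map_pow, ZMod.pow_card, RingHom.algebraMap_toAlgebra]
          linear_combination hy''
        have := Multiset.card_le_card ((Multiset.le_iff_subset (Finset.univ.map emb).nodup).2 hsub)
        simpa [ZMod.card] using this
      obtain ⟨Ψ⟩ := IntermediateField.nonempty_algHom_of_adjoin_splits (F := K) (E := L) (K := M) (S := {y})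
        (fun s hs => by
          rw [Set.mem_singleton_iff.1 hs]
          refine ⟨Algebra.IsIntegral.isIntegral y, ?_⟩
          refine hsplit.of_dvd ?_ (Polynomial.map_dvd _ (minpoly.dvd K y hFy))
          refine Monic.ne_zero (Monic.map _ ?_)
          rw [show F = X ^ p - (X + C f) by simp only [F]; ring]
          refine monic_X_pow_sub ?_
          rw [degree_X_add_C]; exact_mod_cast (Fact.out : p.Prime).one_lt) hadj
      exact ⟨Ψ.toRingHom, fun c => Ψ.commutes c⟩
    exact aux L ((algebraMap K L).comp φK) y' hy'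
  have hmem : ∀ a : A, ∃ a' : A, ι a' = Ψ (ι a) := by
    intro a
    obtain ⟨q, hqm, hqa⟩ := hint.isIntegral a
    refine IsIntegrallyClosed.isIntegral_iff.1
      ⟨q.map ((algebraMap B A).comp φ.toAlgHom.toRingHom), hqm.map _, ?_⟩
    rw [eval₂_map]
    have hcomp : ι.comp ((algebraMap B A).comp φ.toAlgHom.toRingHom) = Ψ.comp (ι.comp (algebraMap B A)) :=
      RingHom.ext fun b => by
        have := hΨ (jB b)
        rw [hφK] at this
        exact this.symm
    rw [hcomp, ← RingHom.comp_apply Ψ ι a, ← RingHom.comp_assoc, ← hom_eval₂, hqa, map_zero]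
  choose ψ hψ using hmem
  refine ⟨RingHom.mk' ⟨⟨ψ, hιinj (by rw [hψ, map_one, map_one])⟩, fun a b => hιinj (by simp [hψ])⟩
    (fun a b => hιinj (by simp [hψ])), fun a b h => hιinj (Ψ.injective ?_), fun x => hιinj ?_⟩
  · rw [← hψ, ← hψ]; exact congrArg ι h
  · change ι (ψ (x : A)) = ι ((φ x : A))
    rw [hψ]
    have := hΨ (jB x)
    rw [hφK] at this
    exact this

end Groth.Agent.ASPurity
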