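import Mathlib

/-!
# Reduced monomials in elements satisfying `u ^ p = b u + c`
-/

set_option autoImplicit false

universe u v w

open Finset

namespace Groth.Agent.ASPurity.Family

variable {R : Type u} [CommRing R] {A : Type v} [CommRing A] [Algebra R A] {σ : Type w} [Fintype σ] [DecidableEq σ]
  {p : ℕ}

/-- The monomial with exponents `e`. -/
def mon (x : σ → A) (e : σ → Fin p) : A := ∏ i, x i ^ (e i : ℕ)

/-- The `R`-linear combinations of reduced monomials. -/
noncomputable def lc (x : σ → A) : ((σ → Fin p) → R) →ₗ[R] A := Fintype.linearCombination R (mon x)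

theorem lc_apply (x : σ → A) (c : (σ → Fin p) → R) : lc x c = ∑ e, algebraMap R A (c e) * mon x e := by
  simp [lc, Fintype.linearCombination_apply, Algebra.smul_def]

theorem lc_single (x : σ → A) (e : σ → Fin p) (a : R) :
    lc x (Pi.single e a) = algebraMap R A a * mon x e := by
  simp [lc, Fintype.linearCombination_apply_single, Algebra.smul_def]

theorem mon_zero [NeZero p] (x : σ → A) : mon x (0 : σ → Fin p) = 1 := by simp [mon]

theorem mon_update (x : σ → A) (e : σ → Fin p) (i : σ) (d : Fin p) :
    mon x (Function.update e i d) = x i ^ (d : ℕ) * ∏ j ∈ Finset.univ.erase i, x j ^ (e j : ℕ) := by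
  rw [mon, ← Finset.mul_prod_erase _ _ (Finset.mem_univ i), Function.update_self]
  refine congrArg _ (Finset.prod_congr rfl fun j hj => ?_)
  rw [Function.update_of_ne (Finset.ne_of_mem_erase hj)]

theorem mon_eq (x : σ → A) (e : σ → Fin p) (i : σ) :
    mon x e = x i ^ (e i : ℕ) * ∏ j ∈ Finset.univ.erase i, x j ^ (e j : ℕ) :=
  (Finset.mul_prod_erase _ (fun j => x j ^ (e j : ℕ)) (Finset.mem_univ i)).symm

/-- Elements of the algebra generated by the `x i` are combinations of reduced monomials. -/
theorem mem_range_lc (hp : 2 ≤ p) (x : σ → A) (b c : σ → R)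
    (hrel : ∀ i, x i ^ p = algebraMap R A (b i) * x i + algebraMap R A (c i))
    {a : A} (ha : a ∈ Algebra.adjoin R (Set.range x)) : a ∈ LinearMap.range (lc (p := p) (R := R) x) := by
  classical
  haveI : NeZero p := ⟨by omega⟩
  set W := LinearMap.range (lc (p := p) (R := R) x) with hW
  have hmon : ∀ e : σ → Fin p, mon x e ∈ W := fun e => ⟨Pi.single e 1, by rw [lc_single, map_one, one_mul]⟩
  have hmul : ∀ i, ∀ w ∈ W, x i * w ∈ W := by
    rintro i _ ⟨a, rfl⟩
    rw [lc_apply, Finset.mul_sum]
    refine sum_mem fun e _ => ?_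
    rw [mul_left_comm, ← Algebra.smul_def]
    refine W.smul_mem _ ?_
    by_cases he : (e i : ℕ) + 1 < p
    · have := hmon (Function.update e i ⟨(e i : ℕ) + 1, he⟩)
      rw [mon_update] at this
      rw [mon_eq x e i, ← mul_assoc, ← pow_succ']
      exact this
    · have hep : (e i : ℕ) + 1 = p := le_antisymm (e i).2 (not_lt.1 he)
      rw [mon_eq x e i, ← mul_assoc, ← pow_succ', hep, hrel, add_mul, mul_assoc, ← Algebra.smul_def,
        ← Algebra.smul_def]
      refine W.add_mem (W.smul_mem _ ?_) (W.smul_mem _ ?_)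
      · have := hmon (Function.update e i ⟨1, hp⟩)
        rwa [mon_update, pow_one] at this
      · have := hmon (Function.update e i ⟨0, by omega⟩)
        rwa [mon_update, pow_zero, one_mul] at this
  have : ∀ w ∈ W, a * w ∈ W := by
    induction ha using Algebra.adjoin_induction with
    | mem y hy => obtain ⟨i, rfl⟩ := hy; exact hmul i
    | algebraMap r => intro w hw; rw [← Algebra.smul_def]; exact W.smul_mem _ hw
    | add y z _ _ hy hz => intro w hw; rw [add_mul]; exact W.add_mem (hy w hw) (hz w hw)
    | mul y z _ _ hy hz => intro w hw; rw [mul_assoc]; exact hy _ (hz w hw)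
  have h1 := this _ (hmon 0)
  rwa [mon_zero, mul_one] at h1

/-- Reduced monomials span the algebra generated by the `x i`. -/
theorem lc_surjective (hp : 2 ≤ p) (x : σ → A) (b c : σ → R)
    (hrel : ∀ i, x i ^ p = algebraMap R A (b i) * x i + algebraMap R A (c i))
    (hgen : Algebra.adjoin R (Set.range x) = ⊤) : Function.Surjective (lc (p := p) (R := R) x) :=
  fun a => mem_range_lc hp x b c hrel (hgen ▸ Algebra.mem_top)

/-- Coefficients of `θ w - w` when `θ` shifts the `j`th variable by `δ`. -/
noncomputable def shift (j : σ) (δ : R) (c : (σ → Fin p) → R) : (σ → Fin p) → R :=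
  fun f => ∑ d : Fin p, if (f j : ℕ) < d then c (Function.update f j d) * (((d : ℕ).choose (f j) : R) * δ ^ ((d : ℕ) - f j)) else 0

theorem algHom_lc_sub (x : σ → A) (j : σ) (δ : R) (θ : A →ₐ[R] A)
    (hθ : ∀ i, θ (x i) = x i + if i = j then algebraMap R A δ else 0) (c : (σ → Fin p) → R) :
    θ (lc x c) - lc x c = lc x (shift j δ c) := by
  classical
  have hmon : ∀ e : σ → Fin p, θ (mon x e) - mon x e =
      ∑ l : Fin p, if (l : ℕ) < e j then
        algebraMap R A (((e j : ℕ).choose l : R) * δ ^ ((e j : ℕ) - l)) * mon x (Function.update e j l) else 0 := by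
    intro e
    have h1 : θ (mon x e) = (x j + algebraMap R A δ) ^ (e j : ℕ) * ∏ i ∈ Finset.univ.erase j, x i ^ (e i : ℕ) := by
      rw [mon_eq x e j, map_mul, map_pow, map_prod, hθ, if_pos rfl]
      refine congrArg _ (Finset.prod_congr rfl fun i hi => ?_)
      rw [map_pow, hθ, if_neg (Finset.ne_of_mem_erase hi), add_zero]
    rw [h1, mon_eq x e j, ← sub_mul, add_pow, Finset.sum_range_succ, Nat.choose_self, Nat.sub_self, pow_zero,
      Nat.cast_one, mul_one, mul_one, add_sub_cancel_right, Finset.sum_mul,
      ← Finset.sum_filter]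
    refine Finset.sum_bij' (fun l hl => (⟨l, (Finset.mem_range.1 hl).trans (e j).2⟩ : Fin p)) (fun l _ => (l : ℕ))
      (fun l hl => Finset.mem_filter.2 ⟨Finset.mem_univ _, Finset.mem_range.1 hl⟩)
      (fun l hl => Finset.mem_range.2 (Finset.mem_filter.1 hl).2) (fun _ _ => rfl) (fun _ _ => rfl) fun l hl => ?_
    rw [mon_update, map_mul, map_natCast, map_pow]
    ring
  rw [lc_apply, lc_apply, map_sum, ← Finset.sum_sub_distrib]
  simp only [map_mul, AlgHom.commutes, ← mul_sub, hmon, Finset.mul_sum, shift, map_sum, Finset.sum_mul]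
  rw [Finset.sum_comm (s := (Finset.univ : Finset (σ → Fin p))) (t := (Finset.univ : Finset (Fin p)))]
  conv_rhs => rw [Finset.sum_comm]
  -- reindex `(l, e) ↦ (e j, update e j l)`
  rw [← Finset.sum_product', ← Finset.sum_product']
  refine Finset.sum_bij' (fun x _ => (x.2 j, Function.update x.2 j x.1)) (fun y _ => (y.2 j, Function.update y.2 j y.1))
    (fun _ _ => Finset.mem_product.2 ⟨Finset.mem_univ _, Finset.mem_univ _⟩)
    (fun _ _ => Finset.mem_product.2 ⟨Finset.mem_univ _, Finset.mem_univ _⟩) (fun x _ => by simp) (fun y _ => by simp)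
    fun x _ => ?_
  simp only [Function.update_self, Function.update_idem, Function.update_eq_self]
  split_ifs with h
  · rw [map_mul, map_mul, mul_assoc]
    simp [mul_assoc]
  · simp

/-- Total degree. -/
def deg (e : σ → Fin p) : ℕ := ∑ i, (e i : ℕ)

theorem shift_top (j : σ) (δ : R) (c : (σ → Fin p) → R) (e : σ → Fin p)
    (hj : (e j : ℕ) ≠ 0) (htop : ∀ f, deg e < deg f → c f = 0) :
    shift j δ c (Function.update e j ⟨(e j : ℕ) - 1, lt_of_le_of_lt (Nat.sub_le _ _) (e j).2⟩) =
      c e * ((e j : ℕ) * δ) := by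
  classical
  unfold shift
  rw [Finset.sum_eq_single (e j)]
  · rw [Function.update_self, if_pos (by simp only; omega), Function.update_idem, Function.update_eq_self]
    congr 1
    simp only [show (e j : ℕ) - ((e j : ℕ) - 1) = 1 by omega, pow_one]
    rw [show (e j : ℕ).choose ((e j : ℕ) - 1) = (e j : ℕ) by
      rw [Nat.choose_symm (by omega : 1 ≤ (e j : ℕ)), Nat.choose_one_right]]
  · intro d _ hd
    rw [Function.update_self, Function.update_idem]
    split_ifs with h
    · rw [htop, zero_mul]
      have hd' : (e j : ℕ) < d := by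
        simp only at h
        rcases lt_trichotomy (e j : ℕ) d with h' | h' | h'
        · exact h'
        · exact absurd (Fin.ext h'.symm) hd
        · omega
      unfold deg
      refine Finset.sum_lt_sum (fun i _ => ?_) ⟨j, Finset.mem_univ j, by rw [Function.update_self]; exact hd'⟩
      rcases eq_or_ne i j with rfl | hi
      · rw [Function.update_self]; omega
      · rw [Function.update_of_ne hi]
    · rfl
  · intro h; exact absurd (Finset.mem_univ _) h

section Domain

variable [IsDomain R] [Fact p.Prime] [CharP R p]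

theorem eq_zero_of_forall_shift (δ : σ → R) (hδ : ∀ j, δ j ≠ 0) (c : (σ → Fin p) → R)
    (h : ∀ j, shift j (δ j) c = 0) (e : σ → Fin p) (he : deg e ≠ 0) : c e = 0 := by
  classical
  by_contra hce
  obtain ⟨m, hm, hmax⟩ := Finset.exists_max_image (Finset.univ.filter fun f : σ → Fin p => c f ≠ 0) deg
    ⟨e, by simp [hce]⟩
  have hmd : deg m ≠ 0 := fun h0 => he (Nat.le_zero.1 (h0 ▸ hmax e (by simp [hce])))
  obtain ⟨j, hj⟩ : ∃ j, (m j : ℕ) ≠ 0 := by
    by_contra hall
    push Not at hall
    exact hmd (Finset.sum_eq_zero fun i _ => hall i)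
  have htop : ∀ f, deg m < deg f → c f = 0 := fun f hf => by
    by_contra hcf
    exact absurd (hmax f (by simp [hcf])) (not_le.2 hf)
  have := shift_top j (δ j) c m hj htop
  rw [h j] at this
  simp only [Finset.mem_filter, Finset.mem_univ, true_and] at hm
  refine mul_ne_zero hm (mul_ne_zero ?_ (hδ j)) this.symm
  rw [Ne, CharP.cast_eq_zero_iff R p]
  exact fun hd => absurd (Nat.le_of_dvd (Nat.pos_of_ne_zero hj) hd) (not_le.2 (m j).2)

/-- Shifting endomorphisms make the reduced monomials independent. -/
theorem lc_injective (x : σ → A) (hinj : Function.Injective (algebraMap R A)) (δ : σ → R)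
    (hδ : ∀ j, δ j ≠ 0) (θ : σ → A →ₐ[R] A)
    (hθ : ∀ j i, θ j (x i) = x i + if i = j then algebraMap R A (δ j) else 0) :
    Function.Injective (lc (p := p) (R := R) x) := by
  classical
  haveI : NeZero p := ⟨(Fact.out : p.Prime).ne_zero⟩
  rw [injective_iff_map_eq_zero]
  suffices H : ∀ (D : ℕ) (c : (σ → Fin p) → R), (∀ f, D ≤ deg f → c f = 0) → lc x c = 0 → c = 0 by
    intro c hc
    exact H (Fintype.card σ * p + 1) c (fun f hf => absurd hf (not_le.2 (Nat.lt_succ_of_le
      ((Finset.sum_le_card_nsmul _ _ p fun i _ => (f i).2.le).trans (by simp))))) hc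
  intro D
  induction D with
  | zero => intro c hc _; exact funext fun f => hc f (Nat.zero_le _)
  | succ D ih =>
    intro c hc hlc
    have hshift : ∀ j, shift j (δ j) c = 0 := fun j => by
      refine ih _ (fun f hf => ?_) ?_
      · unfold shift
        refine Finset.sum_eq_zero fun d _ => ?_
        split_ifs with h
        · rw [hc, zero_mul]
          have : deg f < deg (Function.update f j d) := by
            unfold deg
            refine Finset.sum_lt_sum (fun i _ => ?_) ⟨j, Finset.mem_univ j, by rw [Function.update_self]; exact h⟩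
            rcases eq_or_ne i j with rfl | hi
            · rw [Function.update_self]; omega
            · rw [Function.update_of_ne hi]
          omega
        · rfl
      · rw [← algHom_lc_sub x j (δ j) (θ j) (hθ j) c, hlc, map_zero, sub_zero]
    funext f
    by_cases hf : deg f = 0
    · have hf0 : f = 0 := funext fun i => Fin.ext (by
        simpa using (Finset.sum_eq_zero_iff.1 hf) i (Finset.mem_univ i))
      have hsum : lc x c = algebraMap R A (c 0) := by
        rw [lc_apply, Finset.sum_eq_single (0 : σ → Fin p)]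
        · rw [mon_zero, mul_one]
        · intro g _ hg
          rw [eq_zero_of_forall_shift δ hδ c hshift g (fun h0 => hg (funext fun i => Fin.ext (by
            simpa using (Finset.sum_eq_zero_iff.1 h0) i (Finset.mem_univ i)))), map_zero, zero_mul]
        · intro h; exact absurd (Finset.mem_univ _) h
      rw [hlc, eq_comm, ← map_zero (algebraMap R A)] at hsum
      rw [hf0]; exact hinj hsum
    · exact eq_zero_of_forall_shift δ hδ c hshift f hf

/-- A combination fixed by all shifts is a constant. -/
theorem lc_eq_of_fixed (x : σ → A) (hinj : Function.Injective (algebraMap R A)) (δ : σ → R)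
    (hδ : ∀ j, δ j ≠ 0) (θ : σ → A →ₐ[R] A)
    (hθ : ∀ j i, θ j (x i) = x i + if i = j then algebraMap R A (δ j) else 0)
    (c : (σ → Fin p) → R) (ht : ∀ j, θ j (lc x c) = lc x c) [NeZero p] :
    lc x c = algebraMap R A (c 0) := by
  classical
  have hshift : ∀ j, shift j (δ j) c = 0 := fun j => by
    apply lc_injective x hinj δ hδ θ hθ
    rw [← algHom_lc_sub x j (δ j) (θ j) (hθ j) c, ht j, sub_self, map_zero]
  rw [lc_apply, Finset.sum_eq_single (0 : σ → Fin p)]
  · rw [mon_zero, mul_one]
  · intro g _ hg
    rw [eq_zero_of_forall_shift δ hδ c hshift g (fun h0 => hg (funext fun i => Fin.ext (by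
      simpa using (Finset.sum_eq_zero_iff.1 h0) i (Finset.mem_univ i)))), map_zero, zero_mul]
  · intro h; exact absurd (Finset.mem_univ _) h

/-- An element fixed by all shifts is a constant. -/
theorem mem_range_of_forall_fixed (x : σ → A) (hinj : Function.Injective (algebraMap R A)) (δ : σ → R)
    (hδ : ∀ j, δ j ≠ 0) (θ : σ → A →ₐ[R] A)
    (hθ : ∀ j i, θ j (x i) = x i + if i = j then algebraMap R A (δ j) else 0)
    (hsurj : Function.Surjective (lc (p := p) (R := R) x)) (t : A) (ht : ∀ j, θ j t = t) :
    t ∈ Set.range (algebraMap R A) := by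
  classical
  haveI : NeZero p := ⟨(Fact.out : p.Prime).ne_zero⟩
  obtain ⟨c, rfl⟩ := hsurj t
  refine ⟨c 0, ?_⟩
  have hshift : ∀ j, shift j (δ j) c = 0 := fun j => by
    apply lc_injective x hinj δ hδ θ hθ
    rw [← algHom_lc_sub x j (δ j) (θ j) (hθ j) c, ht j, sub_self, map_zero]
  rw [lc_apply, Finset.sum_eq_single (0 : σ → Fin p)]
  · rw [mon_zero, mul_one]
  · intro g _ hg
    rw [eq_zero_of_forall_shift δ hδ c hshift g (fun h0 => hg (funext fun i => Fin.ext (by
      simpa using (Finset.sum_eq_zero_iff.1 h0) i (Finset.mem_univ i)))), map_zero, zero_mul]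
  · intro h; exact absurd (Finset.mem_univ _) h

end Domain

end Groth.Agent.ASPurity.Family
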