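import Mathlib
import Groth.Agent.ASPurity.Monomials

/-!
# The rings `R[X] / (X_i ^ p - a_i ^ (p - 1) X_i - c_i)`
-/

set_option autoImplicit false
set_option linter.style.haveILetI false

universe u v w

open MvPolynomial TensorProduct

namespace Groth.Agent.ASPurity.Family

variable {σ : Type w} [Fintype σ] [DecidableEq σ] {p : ℕ} {R : Type u} [CommRing R]

/-- The ideal of relations. -/
noncomputable abbrev relI (p : ℕ) (b c : σ → R) : Ideal (MvPolynomial σ R) :=
  Ideal.span (Set.range fun i => X i ^ p - C (b i) * X i - C (c i))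

/-- The classes of the variables. -/
noncomputable abbrev var (p : ℕ) (b c : σ → R) (i : σ) : MvPolynomial σ R ⧸ relI p b c :=
  Ideal.Quotient.mk _ (X i)

omit [Fintype σ] [DecidableEq σ] in
theorem var_pow (b c : σ → R) (i : σ) :
    var p b c i ^ p = algebraMap R _ (b i) * var p b c i + algebraMap R _ (c i) := by
  have h : Ideal.Quotient.mk (relI p b c) (X i ^ p - C (b i) * X i - C (c i)) = 0 :=
    Ideal.Quotient.eq_zero_iff_mem.2 (Ideal.subset_span ⟨i, rfl⟩)
  rw [map_sub, map_sub, map_pow, map_mul, sub_sub, sub_eq_zero] at h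
  exact h

omit [Fintype σ] [DecidableEq σ] in
theorem adjoin_var (b c : σ → R) : Algebra.adjoin R (Set.range (var p b c)) = ⊤ := by
  have h : Set.range (var p b c) = Ideal.Quotient.mkₐ R (relI p b c) '' Set.range X := by
    rw [← Set.range_comp]; rfl
  rw [h, ← AlgHom.map_adjoin, adjoin_range_X, Algebra.map_top, AlgHom.range_eq_top]
  exact Ideal.Quotient.mk_surjective

omit [Fintype σ] [DecidableEq σ] in
/-- Maps out of the quotient. -/
theorem exists_lift {T : Type*} [CommRing T] [Algebra R T] (b c : σ → R) (y : σ → T)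
    (h : ∀ i, y i ^ p = algebraMap R T (b i) * y i + algebraMap R T (c i)) :
    ∃ f : (MvPolynomial σ R ⧸ relI p b c) →ₐ[R] T, ∀ i, f (var p b c i) = y i := by
  have hle : relI p b c ≤ RingHom.ker (aeval y : MvPolynomial σ R →ₐ[R] T).toRingHom := by
    rw [Ideal.span_le]
    rintro _ ⟨i, rfl⟩
    simp [RingHom.mem_ker, h i]
  exact ⟨Ideal.Quotient.liftₐ (relI p b c) (aeval y) hle, fun i =>
    (Ideal.Quotient.liftₐ_apply _ _ _ _).trans (aeval_X y i)⟩

variable [Fact p.Prime]

omit [Fintype σ] in
theorem exists_shiftHom [CharP R p] (a c : σ → R) (j : σ) :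
    ∃ θ : (MvPolynomial σ R ⧸ relI p (fun i => a i ^ (p - 1)) c) →ₐ[R]
        (MvPolynomial σ R ⧸ relI p (fun i => a i ^ (p - 1)) c),
      ∀ i, θ (var p _ c i) = var p _ c i + if i = j then algebraMap R _ (a j) else 0 := by
  refine exists_lift _ _ _ fun i => ?_
  obtain ⟨q, hq⟩ : ∃ q, p = q + 1 := ⟨p - 1, (Nat.sub_add_cancel (Fact.out : p.Prime).one_le).symm⟩
  split_ifs with h
  · subst h
    rcases subsingleton_or_nontrivial (MvPolynomial σ R ⧸ relI p (fun i => a i ^ (p - 1)) c) with hs | hn
    · exact Subsingleton.elim _ _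
    have : CharP (MvPolynomial σ R ⧸ relI p (fun i => a i ^ (p - 1)) c) p :=
      (CharP.charP_iff_prime_eq_zero (Fact.out : p.Prime)).2 (by
        rw [← map_natCast (algebraMap R _), CharP.cast_eq_zero, map_zero])
    rw [add_pow_expChar, var_pow]
    simp only [map_pow, hq, Nat.add_sub_cancel]
    ring
  · rw [add_zero, var_pow]

set_option synthInstance.maxHeartbeats 400000 in
set_option maxSynthPendingDepth 3 in
/-- Reduced monomials form a basis. -/
theorem lc_bijective [CharP R p] (a c : σ → R) :
    Function.Bijective (lc (p := p) (R := R) (var p (fun i => a i ^ (p - 1)) c)) := by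
  refine ⟨?_, lc_surjective (Fact.out : p.Prime).two_le _ _ _ (var_pow _ c) (adjoin_var _ c)⟩
  -- the universal case
  let S := MvPolynomial (σ ⊕ σ) (ZMod p)
  let α : σ → S := fun i => X (Sum.inl i)
  let γ : σ → S := fun i => X (Sum.inr i)
  let T := MvPolynomial σ S ⧸ relI p (fun i => α i ^ (p - 1)) γ
  have hSinj : Function.Injective (algebraMap S T) := by
    let Ω := AlgebraicClosure (FractionRing S)
    have hp1 : ∀ i, ∃ y : Ω, y ^ p = algebraMap S Ω (α i ^ (p - 1)) * y + algebraMap S Ω (γ i) := fun i => by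
      obtain ⟨y, hy⟩ := IsAlgClosed.exists_root (Polynomial.X ^ p -
        (Polynomial.C (algebraMap S Ω (α i ^ (p - 1))) * Polynomial.X + Polynomial.C (algebraMap S Ω (γ i)))) (by
          rw [Polynomial.degree_sub_eq_left_of_degree_lt, Polynomial.degree_X_pow]
          · exact_mod_cast (Fact.out : p.Prime).ne_zero
          · rw [Polynomial.degree_X_pow]
            exact lt_of_le_of_lt Polynomial.degree_linear_le (by exact_mod_cast (Fact.out : p.Prime).one_lt))
      refine ⟨y, ?_⟩
      simp only [Polynomial.IsRoot.def, Polynomial.eval_sub, Polynomial.eval_pow, Polynomial.eval_X,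
        Polynomial.eval_add, Polynomial.eval_mul, Polynomial.eval_C, sub_eq_zero] at hy
      exact hy
    choose y hy using hp1
    obtain ⟨f, -⟩ := exists_lift _ _ y hy
    intro s t hst
    have hinjΩ : Function.Injective (algebraMap S Ω) := fun s t h => IsFractionRing.injective S (FractionRing S)
      ((algebraMap (FractionRing S) Ω).injective (by
        rwa [← IsScalarTower.algebraMap_apply, ← IsScalarTower.algebraMap_apply]))
    exact hinjΩ (by rw [← f.commutes s, ← f.commutes t, hst])
  choose θ hθ using fun j => exists_shiftHom α γ j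
  have hT : Function.Bijective (lc (p := p) (R := S) (var p (fun i => α i ^ (p - 1)) γ)) :=
    ⟨lc_injective _ hSinj α (fun j => X_ne_zero _) θ hθ,
      lc_surjective (Fact.out : p.Prime).two_le _ _ _ (var_pow _ γ) (adjoin_var _ γ)⟩
  -- base change
  letI : Algebra (ZMod p) R := ZMod.algebra R p
  letI : Algebra S R := (aeval (Sum.elim a c) : S →ₐ[ZMod p] R).toRingHom.toAlgebra
  have hα : ∀ i, algebraMap S R (α i) = a i := fun i => aeval_X _ _
  have hγ : ∀ i, algebraMap S R (γ i) = c i := fun i => aeval_X _ _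
  have htmul : ∀ s : S, (1 : R) ⊗ₜ[S] algebraMap S T s = algebraMap R (R ⊗[S] T) (algebraMap S R s) := fun s => by
    rw [Algebra.algebraMap_eq_smul_one, ← TensorProduct.smul_tmul, ← Algebra.algebraMap_eq_smul_one,
      Algebra.TensorProduct.algebraMap_apply, Algebra.algebraMap_self, RingHom.id_apply]
  obtain ⟨f, hf⟩ := exists_lift (p := p) (fun i => a i ^ (p - 1)) c
    (fun i => (1 : R) ⊗ₜ[S] var p (fun i => α i ^ (p - 1)) γ i) (fun i => by
      rw [Algebra.TensorProduct.tmul_pow, one_pow, var_pow, TensorProduct.tmul_add, ← hα, ← hγ, ← map_pow, ← htmul,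
        ← htmul, Algebra.TensorProduct.tmul_mul_tmul, one_mul])
  let B : Module.Basis (σ → Fin p) S T :=
    Module.Basis.ofEquivFun (LinearEquiv.ofBijective _ hT).symm
  have hB : ∀ e, B e = mon (var p (fun i => α i ^ (p - 1)) γ) e := fun e => by
    simp [B, Module.Basis.coe_ofEquivFun, lc_single]
  have hfB : ∀ e, f (mon (var p (fun i => a i ^ (p - 1)) c) e) = (B.baseChange R) e := fun e => by
    rw [Module.Basis.baseChange_apply, hB, mon, mon]
    refine (map_prod f.toRingHom.toMonoidHom _ _).trans (Eq.trans ?_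
      (map_prod (Algebra.TensorProduct.includeRight (R := S) (A := R) (B := T)).toRingHom.toMonoidHom _ _).symm)
    refine Finset.prod_congr rfl fun i _ => ?_
    exact (map_pow f.toRingHom _ _).trans ((congrArg (· ^ _) (hf i)).trans
      (map_pow (Algebra.TensorProduct.includeRight (R := S) (A := R) (B := T)).toRingHom _ _).symm)
  intro c₁ c₂ h
  have key : ∀ c' : (σ → Fin p) → R, f (lc (var p (fun i => a i ^ (p - 1)) c) c') =
      ∑ e, c' e • (B.baseChange R) e := fun c' => by
    rw [lc_apply]
    refine (map_sum f.toRingHom.toAddMonoidHom _ _).trans (Finset.sum_congr rfl fun e _ => ?_)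
    change f (algebraMap R _ (c' e) * _) = _
    rw [← Algebra.smul_def, map_smul, hfB]
  have h' := congrArg f h
  rw [key, key] at h'
  funext e
  have h2 := congrArg (fun z => (B.baseChange R).repr z e) h'
  simp only [(B.baseChange R).repr_sum_self] at h2
  exact h2

theorem algebraMap_injective [CharP R p] (a c : σ → R) :
    Function.Injective (algebraMap R (MvPolynomial σ R ⧸ relI p (fun i => a i ^ (p - 1)) c)) := by
  haveI : NeZero p := ⟨(Fact.out : p.Prime).ne_zero⟩
  intro r s h
  have key : ∀ t, lc (p := p) (var p (fun i => a i ^ (p - 1)) c) (Pi.single 0 t) = algebraMap R _ t := fun t => by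
    rw [lc_single, mon_zero, mul_one]
  have := (lc_bijective a c).1 ((key r).trans (h.trans (key s).symm))
  simpa using congrFun this 0

theorem moduleFree [CharP R p] (a c : σ → R) :
    Module.Free R (MvPolynomial σ R ⧸ relI p (fun i => a i ^ (p - 1)) c) :=
  Module.Free.of_equiv (LinearEquiv.ofBijective _ (lc_bijective a c))

theorem finrank_eq [CharP R p] [Nontrivial R] (a c : σ → R) :
    Module.finrank R (MvPolynomial σ R ⧸ relI p (fun i => a i ^ (p - 1)) c) = p ^ Fintype.card σ := by
  rw [← (LinearEquiv.ofBijective _ (lc_bijective a c)).finrank_eq, Module.finrank_pi, Fintype.card_fun,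
    Fintype.card_fin]

theorem moduleFinite (b c : σ → R) : Module.Finite R (MvPolynomial σ R ⧸ relI p b c) :=
  Module.Finite.of_surjective (lc (p := p) (R := R) (var p b c))
    (lc_surjective (Fact.out : p.Prime).two_le _ _ _ (var_pow b c) (adjoin_var b c))

section Local

open IsLocalRing

variable [IsLocalRing R] (b c : σ → R)

theorem isLocalRing_and_maximalIdeal (hb : ∀ i, b i ∈ maximalIdeal R) (hc : ∀ i, c i ∈ maximalIdeal R) :
    ∃ _ : IsLocalRing (MvPolynomial σ R ⧸ relI p b c),
      maximalIdeal (MvPolynomial σ R ⧸ relI p b c) =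
        Ideal.span (Set.range (var p b c)) ⊔ (maximalIdeal R).map (algebraMap R _) := by
  haveI : NeZero p := ⟨(Fact.out : p.Prime).ne_zero⟩
  set A := MvPolynomial σ R ⧸ relI p b c
  set M : Ideal A := Ideal.span (Set.range (var p b c)) ⊔ (maximalIdeal R).map (algebraMap R _)
  obtain ⟨π, hπ⟩ := exists_lift (p := p) b c (fun _ => (0 : ResidueField R)) (fun i => by
    rw [zero_pow (Fact.out : p.Prime).ne_zero, mul_zero, zero_add, eq_comm]
    exact (residue_eq_zero_iff _).2 (hc i))
  have hπs : Function.Surjective π := fun y => by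
    obtain ⟨r, rfl⟩ := residue_surjective y
    exact ⟨algebraMap R A r, π.commutes r⟩
  have hM : M = RingHom.ker π.toRingHom := by
    refine le_antisymm (sup_le (Ideal.span_le.2 ?_) (Ideal.map_le_iff_le_comap.2 fun r hr => ?_)) fun a ha => ?_
    · rintro _ ⟨i, rfl⟩; exact hπ i
    · rw [Ideal.mem_comap, RingHom.mem_ker]
      exact (π.commutes r).trans ((residue_eq_zero_iff _).2 hr)
    · obtain ⟨c', rfl⟩ := lc_surjective (Fact.out : p.Prime).two_le _ _ _ (var_pow b c) (adjoin_var b c) a
      rw [lc_apply, ← Finset.add_sum_erase _ _ (Finset.mem_univ (0 : σ → Fin p))] at ha ⊢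
      have hrest : ∑ e ∈ Finset.univ.erase (0 : σ → Fin p), algebraMap R A (c' e) * mon (var p b c) e ∈
          Ideal.span (Set.range (var p b c)) := Ideal.sum_mem _ fun e he => by
        obtain ⟨i, hi⟩ : ∃ i, e i ≠ 0 := Function.ne_iff.1 (Finset.ne_of_mem_erase he)
        rw [mon_eq (var p b c) e i]
        exact Ideal.mul_mem_left _ _ (Ideal.mul_mem_right _ _ (Ideal.pow_mem_of_mem _ (Ideal.subset_span (Set.mem_range_self i))
          _ (Nat.pos_of_ne_zero fun h => hi (Fin.ext h))))
      have h2 : ∀ z ∈ Ideal.span (Set.range (var p b c)), π z = 0 := fun z hz => by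
        have hle : Ideal.span (Set.range (var p b c)) ≤ RingHom.ker π.toRingHom := Ideal.span_le.2 (by
          rintro _ ⟨i, rfl⟩; exact hπ i)
        exact hle hz
      change π (_ + _) = 0 at ha
      rw [map_add, h2 _ hrest, add_zero, mon_zero, mul_one, π.commutes] at ha
      rw [mon_zero, mul_one]
      exact Ideal.add_mem _ (Ideal.mem_sup_right (Ideal.mem_map_of_mem _ ((residue_eq_zero_iff _).1 ha)))
        (Ideal.mem_sup_left hrest)
  have hMmax : M.IsMaximal := hM ▸ RingHom.ker_isMaximal_of_surjective π.toRingHom hπs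
  have huniq : ∀ P : Ideal A, P.IsMaximal → P = M := by
    intro P hP
    refine (hMmax.eq_of_le hP.ne_top ?_).symm
    haveI := moduleFinite (p := p) b c
    haveI : Algebra.IsIntegral R A := Algebra.IsIntegral.of_finite R A
    have h1 : P.comap (algebraMap R A) = maximalIdeal R :=
      IsLocalRing.eq_maximalIdeal (Ideal.isMaximal_comap_of_isIntegral_of_isMaximal (R := R) P)
    have hmap : ∀ r ∈ maximalIdeal R, algebraMap R A r ∈ P := fun r hr => by
      rw [← h1] at hr; exact hr
    refine sup_le (Ideal.span_le.2 ?_) (Ideal.map_le_iff_le_comap.2 hmap)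
    rintro _ ⟨i, rfl⟩
    refine hP.isPrime.mem_of_pow_mem p ?_
    rw [var_pow]
    exact P.add_mem (P.mul_mem_right _ (hmap _ (hb i))) (hmap _ (hc i))
  haveI : IsLocalRing A := IsLocalRing.of_unique_max_ideal ⟨M, hMmax, huniq⟩
  exact ⟨inferInstance, huniq _ (maximalIdeal.isMaximal A)⟩

end Local

end Groth.Agent.ASPurity.Family
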