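import Mathlib
import Groth.Agent.CAlg48.PSEval
import Groth.Agent.CAlg48.AdicPow
import Groth.Agent.PSLoc.Basic
import Groth.Agent.Adic.Basic
import Groth.Agent.InvQLib.FiniteFree
import Groth.Agent.ASPurity.Extend

/-!
# Invariants of a finite group on a complete Noetherian local ring with a fixed coefficient field
-/

set_option autoImplicit false

universe u v w

open IsLocalRing Polynomial

namespace Groth.Agent.ASPurity

theorem psHom_unique {A : Type u} [CommRing A] [IsLocalRing A] [IsNoetherianRing A] {k : Type v} [Field k]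
    [Algebra k A] {ι : Type*} [Finite ι] (ψ ψ' : MvPowerSeries ι k →ₐ[k] A)
    (hX : ∀ i, ψ (MvPowerSeries.X i) = ψ' (MvPowerSeries.X i))
    (hm : ∀ i, ψ (MvPowerSeries.X i) ∈ maximalIdeal A) : ψ = ψ' := by
  classical
  have := Fintype.ofFinite ι
  have key : ∀ (n : ℕ) (f : MvPowerSeries ι k), ψ f - ψ' f ∈ maximalIdeal A ^ n := by
    intro n
    induction n with
    | zero => intro f; rw [pow_zero, Ideal.one_eq_top]; exact Submodule.mem_top
    | succ n ih =>
      intro f
      have hf : f - algebraMap k _ (MvPowerSeries.constantCoeff f) ∈ maximalIdeal (MvPowerSeries ι k) := by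
        rw [mem_maximalIdeal, mem_nonunits_iff, MvPowerSeries.isUnit_iff_constantCoeff]
        simp [MvPowerSeries.algebraMap_apply]
      rw [PSLoc.maximalIdeal_eq, Ideal.mem_span_range_iff_exists_fun] at hf
      obtain ⟨g, hg⟩ := hf
      rw [eq_comm, sub_eq_iff_eq_add] at hg
      rw [hg]
      simp only [map_add, AlgHom.commutes, map_sum, map_mul, add_sub_add_right_eq_sub, ← Finset.sum_sub_distrib]
      refine Ideal.sum_mem _ fun i _ => ?_
      rw [← hX, ← sub_mul, pow_succ]
      exact Ideal.mul_mem_mul (ih (g i)) (hm i)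
  refine AlgHom.ext fun f => sub_eq_zero.1 ?_
  have := Ideal.iInf_pow_eq_bot_of_isLocalRing (maximalIdeal A) (maximalIdeal.isMaximal A).ne_top
  rw [← Ideal.mem_bot, ← this, Ideal.mem_iInf]
  exact fun n => key n f

section

variable {A : Type u} [CommRing A] [IsLocalRing A] {G : Type w} [Group G] [MulSemiringAction G A]

theorem smul_mem_maximalIdeal (σ : G) {a : A} (ha : a ∈ maximalIdeal A) : σ • a ∈ maximalIdeal A :=
  fun h => ha (by simpa using h.map (MulSemiringAction.toRingHom G A σ⁻¹))

theorem smul_sub_mem_maximalIdeal {k : Type v} [Field k] [Algebra k A]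
    (hk : Function.Surjective (residue A ∘ algebraMap k A))
    (hGk : ∀ (σ : G) (c : k), σ • algebraMap k A c = algebraMap k A c) (σ : G) (a : A) :
    σ • a - a ∈ maximalIdeal A := by
  obtain ⟨c, hc⟩ := hk (residue A a)
  have h1 : a - algebraMap k A c ∈ maximalIdeal A := by
    rw [← residue_eq_zero_iff, map_sub, sub_eq_zero]; exact hc.symm
  have : σ • a - a = σ • (a - algebraMap k A c) - (a - algebraMap k A c) := by rw [smul_sub, hGk]; ring
  rw [this]
  exact sub_mem (smul_mem_maximalIdeal σ h1) h1

end

section Finite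

variable {A : Type u} [CommRing A] [IsLocalRing A] [IsNoetherianRing A] [IsAdicComplete (maximalIdeal A) A]
  {k : Type v} [Field k] [Algebra k A] {G : Type w} [Group G] [Finite G] [MulSemiringAction G A]

theorem isIntegral_invariants : Algebra.IsIntegral (FixedPoints.subring A G) A := by
  have : Algebra.IsInvariant (FixedPoints.subring A G) A G := ⟨fun a ha => ⟨⟨a, ha⟩, rfl⟩⟩
  exact Algebra.IsInvariant.isIntegral _ A G

/-- The invariant ring is Noetherian, `A` is finite over it and it is complete. -/
theorem invariants_finite_noetherian_complete (hk : Function.Surjective (residue A ∘ algebraMap k A))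
    (hGk : ∀ (σ : G) (c : k), σ • algebraMap k A c = algebraMap k A c) :
    IsNoetherianRing (FixedPoints.subring A G) ∧ Module.Finite (FixedPoints.subring A G) A ∧
      IsAdicComplete (Ideal.comap (FixedPoints.subring A G).subtype (maximalIdeal A))
        (FixedPoints.subring A G) := by
  classical
  have := Fintype.ofFinite G
  obtain ⟨d, u, hu⟩ := Submodule.fg_iff_exists_fin_generating_family.1 (IsNoetherian.noetherian (maximalIdeal A))
  have hum : ∀ i, u i ∈ maximalIdeal A := fun i => hu ▸ Submodule.subset_span ⟨i, rfl⟩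
  let P : Fin d → A[X] := fun i => ∏ σ : G, (X - C (σ • u i))
  set g := Fintype.card G
  have hPm : ∀ i, (P i).Monic := fun i => monic_prod_X_sub_C _ _
  have hPd : ∀ i, (P i).natDegree = g := fun i => natDegree_finset_prod_X_sub_C_eq_card _ _
  have hPfix : ∀ i (τ : G) (j : ℕ), τ • (P i).coeff j = (P i).coeff j := by
    intro i τ j
    have : (P i).map (MulSemiringAction.toRingHom G A τ) = P i := by
      simp only [P, Polynomial.map_prod, Polynomial.map_sub, map_X, map_C, MulSemiringAction.toRingHom_apply,
        smul_smul]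
      exact Equiv.prod_comp (Equiv.mulLeft τ) (fun σ => X - C (σ • u i))
    have := congrArg (fun q => Polynomial.coeff q j) this
    simpa [coeff_map] using this
  have hPcm : ∀ i, ∀ j < g, (P i).coeff j ∈ maximalIdeal A := by
    intro i j hj
    have : (P i).map (residue A) = X ^ g := by
      simp only [P, Polynomial.map_prod, Polynomial.map_sub, map_X, map_C]
      have h0 : ∀ σ : G, residue A (σ • u i) = 0 := fun σ =>
        (residue_eq_zero_iff _).2 (smul_mem_maximalIdeal σ (hum i))
      simp [h0, g]
    have := congrArg (fun q => Polynomial.coeff q j) this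
    simp only [coeff_map, coeff_X_pow, if_neg hj.ne] at this
    exact (residue_eq_zero_iff _).1 this
  have hProot : ∀ i, (P i).eval (u i) = 0 := fun i => by
    simp only [P, eval_prod]
    exact Finset.prod_eq_zero (Finset.mem_univ (1 : G)) (by simp)
  let ι := Fin d × Fin g
  obtain ⟨ψ, hψ⟩ := CAlg48.PSEval.exists_algHom (k := k) (maximalIdeal A) (fun ij : ι => (P ij.1).coeff ij.2)
    (fun ij => hPcm _ _ ij.2.2)
  let S := MvPowerSeries ι k
  have hψB : ∀ (s : S) (σ : G), σ • ψ s = ψ s := by
    intro s σ
    let ψσ : S →ₐ[k] A :=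
      { (MulSemiringAction.toRingHom G A σ).comp ψ.toRingHom with
        commutes' := fun c => by
          change σ • ψ (algebraMap k S c) = algebraMap k A c
          rw [AlgHom.commutes, hGk] }
    have := psHom_unique ψσ ψ (fun ij => by
      change σ • ψ (MvPowerSeries.X ij) = _
      rw [hψ, hPfix]) (fun ij => by
      change σ • ψ (MvPowerSeries.X ij) ∈ _
      rw [hψ, hPfix]; exact hPcm _ _ ij.2.2)
    exact DFunLike.congr_fun this s
  letI : Algebra S A := ψ.toRingHom.toAlgebra
  let M : Ideal S := Ideal.span (Set.range MvPowerSeries.X)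
  -- the generators are integral
  have huint : ∀ i, IsIntegral S (u i) := by
    intro i
    refine ⟨X ^ g + ∑ j : Fin g, C (MvPowerSeries.X (i, j)) * X ^ (j : ℕ), ?_, ?_⟩
    · refine monic_X_pow_add ((degree_sum_fin_lt _))
    · rw [eval₂_add, eval₂_finsetSum, eval₂_X_pow]
      simp only [eval₂_mul, eval₂_C, eval₂_X_pow]
      have h1 : (P i).eval (u i) = u i ^ g + ∑ j : Fin g, (P i).coeff j * u i ^ (j : ℕ) := by
        rw [eval_eq_sum_range, hPd, Finset.sum_range_succ, Fin.sum_univ_eq_sum_range (fun j => (P i).coeff j * u i ^ j),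
          add_comm]
        rw [← hPd i, (hPm i).coeff_natDegree, one_mul, hPd]
      rw [← hProot i, h1]
      exact congrArg _ (Finset.sum_congr rfl fun j _ => by rw [show algebraMap S A (MvPowerSeries.X (i, j)) =
        ψ (MvPowerSeries.X (i, j)) from rfl, hψ])
  set J : Ideal A := M.map (algebraMap S A) with hJ
  have hJle : J ≤ maximalIdeal A := by
    rw [hJ, Ideal.map_le_iff_le_comap, Ideal.span_le]
    rintro _ ⟨ij, rfl⟩
    change ψ (MvPowerSeries.X ij) ∈ maximalIdeal A
    rw [hψ]; exact hPcm _ _ ij.2.2
  have hrad : maximalIdeal A ≤ J.radical := by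
    rw [← hu, Submodule.span_le]
    rintro _ ⟨i, rfl⟩
    refine ⟨g, ?_⟩
    have h1 : (P i).eval (u i) = u i ^ g + ∑ j : Fin g, (P i).coeff j * u i ^ (j : ℕ) := by
      rw [eval_eq_sum_range, hPd, Finset.sum_range_succ, Fin.sum_univ_eq_sum_range (fun j => (P i).coeff j * u i ^ j),
        add_comm]
      rw [← hPd i, (hPm i).coeff_natDegree, one_mul, hPd]
    rw [hProot i, eq_comm, add_eq_zero_iff_eq_neg] at h1
    rw [h1]
    refine neg_mem (Ideal.sum_mem _ fun j _ => Ideal.mul_mem_right _ _ ?_)
    rw [← hψ (i, j)]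
    exact Ideal.mem_map_of_mem _ (Ideal.subset_span ⟨_, rfl⟩)
  obtain ⟨N, hN⟩ := Ideal.exists_pow_le_of_le_radical_of_fg hrad (IsNoetherian.noetherian _)
  let T : Subalgebra S A := Algebra.adjoin S (Set.range u)
  have hTfg : T.toSubmodule.FG :=
    fg_adjoin_of_finite (Set.finite_range u) (by rintro _ ⟨i, rfl⟩; exact huint i)
  have hT : ∀ (n : ℕ) (a : A), ∃ t ∈ T, a - t ∈ maximalIdeal A ^ n := by
    intro n
    induction n with
    | zero => intro a; exact ⟨0, zero_mem _, by rw [pow_zero, Ideal.one_eq_top]; exact Submodule.mem_top⟩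
    | succ n ih =>
      intro a
      obtain ⟨c, hc⟩ := hk (residue A a)
      have h1 : a - algebraMap k A c ∈ maximalIdeal A := by
        rw [← residue_eq_zero_iff, map_sub, sub_eq_zero]; exact hc.symm
      rw [← hu, Ideal.submodule_span_eq, Ideal.mem_span_range_iff_exists_fun] at h1
      obtain ⟨b, hb⟩ := h1
      choose t ht htb using fun i => ih (b i)
      refine ⟨algebraMap k A c + ∑ i, t i * u i, add_mem ?_ (sum_mem fun i _ => mul_mem (ht i)
        (Algebra.subset_adjoin ⟨i, rfl⟩)), ?_⟩
      · rw [← ψ.commutes c]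
        exact T.algebraMap_mem (algebraMap k S c)
      · rw [← sub_sub, ← hb, ← Finset.sum_sub_distrib]
        refine Ideal.sum_mem _ fun i _ => ?_
        rw [← sub_mul, pow_succ]
        exact Ideal.mul_mem_mul (htb i) (hum i)
  have hfin : Module.Finite S A := by
    haveI : IsHausdorff M A := by
      have hhaus : IsHausdorff J A := IsHausdorff.of_le_jacobson _ _ (hJle.trans (maximalIdeal_le_jacobson _))
      exact IsHausdorff.map_algebraMap_iff.1 hhaus
    refine Adic.finite_of_finite_quot M ?_
    haveI : Module.Finite S T.toSubmodule := Module.Finite.iff_fg.2 hTfg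
    refine Module.Finite.of_surjective ((M • ⊤ : Submodule S A).mkQ.comp T.toSubmodule.subtype) ?_
    intro y
    obtain ⟨a, rfl⟩ := Submodule.Quotient.mk_surjective _ y
    obtain ⟨t, ht, hta⟩ := hT N a
    refine ⟨⟨t, ht⟩, (Submodule.Quotient.eq _).2 ?_⟩
    rw [Ideal.smul_top_eq_map, Submodule.restrictScalars_mem, ← neg_sub]
    exact neg_mem (hN hta)
  -- the invariant ring
  let B := FixedPoints.subring A G
  let ψB : S →+* B := ψ.toRingHom.codRestrict B hψB
  letI : Algebra S B := ψB.toAlgebra
  haveI : IsScalarTower S B A := IsScalarTower.of_algebraMap_eq fun _ => rfl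
  have hBA : Module.Finite B A := Module.Finite.of_restrictScalars_finite S B A
  have hSB : IsNoetherian S B :=
    isNoetherian_of_injective (IsScalarTower.toAlgHom S B A).toLinearMap Subtype.val_injective
  haveI : Module.Finite S B := Module.Finite.iff_fg.2 (hSB.noetherian ⊤) |>.equiv Submodule.topEquiv
  have hBn : IsNoetherianRing B := isNoetherianRing_iff.2 (isNoetherian_of_tower S hSB)
  refine ⟨hBn, hBA, ?_⟩
  have hcompl : IsAdicComplete M B := Adic.isAdicComplete_of_finite M
  have hMB : IsAdicComplete (M.map (algebraMap S B)) B := (IsAdicComplete.map_algebraMap_iff _ _).2 hcompl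
  set mB := Ideal.comap B.subtype (maximalIdeal A)
  have hle : M.map (algebraMap S B) ≤ mB := by
    rw [Ideal.map_le_iff_le_comap, Ideal.comap_comap]
    exact Ideal.map_le_iff_le_comap.1 hJle
  have hrad' : mB ≤ (M.map (algebraMap S B)).radical := by
    rw [Ideal.radical_eq_sInf]
    refine le_sInf fun Q ⟨hQ, hQp⟩ => ?_
    haveI := isIntegral_invariants (A := A) (G := G)
    obtain ⟨Q', -, hQ'p, hQ'⟩ := Ideal.exists_ideal_over_prime_of_isIntegral (S := A) Q ⊥
      (fun b hb => by
        obtain rfl : b = 0 := Subtype.ext hb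
        exact Q.zero_mem)
    have hJQ : J ≤ Q' := by
      rw [hJ, IsScalarTower.algebraMap_eq S B A, ← Ideal.map_map, Ideal.map_le_iff_le_comap, hQ']
      exact hQ
    have : Q' = maximalIdeal A := le_antisymm (le_maximalIdeal hQ'p.ne_top)
      (hrad.trans ((Ideal.IsPrime.radical_le_iff hQ'p).2 hJQ))
    rw [← hQ', this]
    exact le_rfl
  obtain ⟨N', hN'⟩ := Ideal.exists_pow_le_of_le_radical_of_fg hrad' (hBn.noetherian _)
  exact CAlg48.AdicPow.isAdicComplete_of_pow_le (I := M.map (algebraMap S B)) (c := 1) (d := N' + 1)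
    one_pos N'.succ_pos (by rw [pow_one]; exact hle) ((Ideal.pow_le_pow_right N'.le_succ).trans hN')

end Finite

theorem isIntegrallyClosed_invariants {A : Type u} [CommRing A] [IsDomain A] [IsIntegrallyClosed A]
    {G : Type w} [Group G] [MulSemiringAction G A] : IsIntegrallyClosed (FixedPoints.subring A G) := by
  let B := FixedPoints.subring A G
  refine (isIntegrallyClosed_iff (FractionRing B)).mpr fun {x} hx => ?_
  obtain ⟨a, b, hb, rfl⟩ := IsFractionRing.div_surjective (A := B) x
  have hb0 : (b : A) ≠ 0 := fun h => nonZeroDivisors.ne_zero hb (Subtype.ext h)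
  let ψ : FractionRing B →+* FractionRing A :=
    IsFractionRing.lift (g := (algebraMap A (FractionRing A)).comp B.subtype)
      ((IsFractionRing.injective A _).comp Subtype.val_injective)
  obtain ⟨q, hq, hqx⟩ := hx
  have hint : IsIntegral A (algebraMap A (FractionRing A) (a : A) / algebraMap A (FractionRing A) (b : A)) := by
    refine ⟨q.map B.subtype, hq.map _, ?_⟩
    have h1 := congrArg ψ hqx
    rw [map_zero, Polynomial.hom_eval₂] at h1
    rw [Polynomial.eval₂_map]
    have e1 : ψ.comp (algebraMap B (FractionRing B)) = (algebraMap A (FractionRing A)).comp B.subtype := by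
      ext s; simp [ψ, IsFractionRing.lift_algebraMap]
    rw [e1, map_div₀] at h1
    simp only [ψ, IsFractionRing.lift_algebraMap] at h1
    exact h1
  obtain ⟨y, hy⟩ := IsIntegrallyClosed.algebraMap_eq_of_integral hint
  have hmul : (b : A) * y = a := by
    apply IsFractionRing.injective A (FractionRing A)
    rw [map_mul, hy, mul_div_cancel₀ _ (by simpa using hb0)]
  have hyB : ∀ σ : G, σ • y = y := fun σ => by
    apply mul_left_cancel₀ hb0
    conv_lhs => rw [← b.2 σ, ← smul_mul', hmul, a.2 σ, ← hmul]
  refine ⟨⟨y, hyB⟩, ?_⟩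
  rw [eq_div_iff (IsFractionRing.to_map_ne_zero_of_mem_nonZeroDivisors hb), ← map_mul]
  exact congrArg _ (Subtype.ext (by rw [mul_comm] at hmul; exact hmul))

theorem ringKrullDim_invariants {A : Type u} [CommRing A] {G : Type w} [Group G] [Finite G]
    [MulSemiringAction G A] : ringKrullDim (FixedPoints.subring A G) = ringKrullDim A := by
  have : Algebra.IsInvariant (FixedPoints.subring A G) A G := ⟨fun a ha => ⟨⟨a, ha⟩, rfl⟩⟩
  have := Algebra.IsInvariant.isIntegral (FixedPoints.subring A G) A G
  exact (InvQLib.FiniteFree.ringKrullDim_eq_of_integral (FixedPoints.subring A G) A Subtype.val_injective).symm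

end Groth.Agent.ASPurity
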