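import Mathlib
import Groth.Agent.Depth.CM
import Groth.Agent.RegLoc.Basic

/-!
# Lengths of quotients by products of parameters
-/

set_option autoImplicit false

universe u v

open IsLocalRing
open scoped Pointwise

namespace Groth.Agent.ASPurity.LengthProd

variable {A : Type u} [CommRing A]

theorem length_sup_mul_le (J : Ideal A) (a b : A) :
    Module.length A (A ⧸ (J ⊔ Ideal.span {a * b})) ≤
      Module.length A (A ⧸ (J ⊔ Ideal.span {a})) + Module.length A (A ⧸ (J ⊔ Ideal.span {b})) := by
  set K := J ⊔ Ideal.span {a * b}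
  have hle : K ≤ J ⊔ Ideal.span {a} :=
    sup_le_sup_left ((Ideal.span_singleton_le_span_singleton).2 (dvd_mul_right a b)) J
  let g : (A ⧸ K) →ₗ[A] A ⧸ (J ⊔ Ideal.span {a}) := Submodule.factor hle
  have hb : J ⊔ Ideal.span {b} ≤ LinearMap.ker (K.mkQ ∘ₗ LinearMap.mulLeft A a) := by
    refine sup_le (fun x hx => ?_) ((Ideal.span_singleton_le_iff_mem _).2 ?_)
    · rw [LinearMap.mem_ker, LinearMap.comp_apply, Submodule.mkQ_apply, Submodule.Quotient.mk_eq_zero]
      exact Ideal.mem_sup_left (J.mul_mem_left a hx)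
    · rw [LinearMap.mem_ker, LinearMap.comp_apply, Submodule.mkQ_apply, Submodule.Quotient.mk_eq_zero]
      exact Ideal.mem_sup_right (Ideal.mem_span_singleton_self _)
  let f : (A ⧸ (J ⊔ Ideal.span {b})) →ₗ[A] A ⧸ K := Submodule.liftQ _ (K.mkQ ∘ₗ LinearMap.mulLeft A a) hb
  have hker : LinearMap.ker g ≤ LinearMap.range f := fun y hy => by
    obtain ⟨c, rfl⟩ := Submodule.Quotient.mk_surjective _ y
    rw [LinearMap.mem_ker] at hy
    have hc : c ∈ J ⊔ Ideal.span {a} := (Submodule.Quotient.mk_eq_zero _).1 hy
    obtain ⟨j, hj, z, hz, rfl⟩ := Submodule.mem_sup.1 hc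
    obtain ⟨w, rfl⟩ := Ideal.mem_span_singleton.1 hz
    refine ⟨Submodule.Quotient.mk w, (Submodule.Quotient.eq K).2 ?_⟩
    change a * w - (j + a * w) ∈ K
    rw [sub_add_cancel_right]
    exact neg_mem (Ideal.mem_sup_left hj)
  have h1 : Module.length A (LinearMap.ker g) ≤ Module.length A (LinearMap.range f) :=
    Module.length_le_of_injective (Submodule.inclusion hker) (Submodule.inclusion_injective hker)
  have h2 : Module.length A (LinearMap.range f) ≤ Module.length A (A ⧸ (J ⊔ Ideal.span {b})) :=
    Module.length_le_of_surjective f.rangeRestrict f.surjective_rangeRestrict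
  rw [Module.length_eq_add_of_exact (LinearMap.ker g).subtype g Subtype.val_injective (Submodule.factor_surjective hle)
    (LinearMap.exact_subtype_ker_map g), add_comm]
  exact add_le_add le_rfl (h1.trans h2)

theorem length_sup_mul_eq (J : Ideal A) (a b : A) (hreg : ∀ w, a * w ∈ J → w ∈ J) :
    Module.length A (A ⧸ (J ⊔ Ideal.span {a * b})) =
      Module.length A (A ⧸ (J ⊔ Ideal.span {a})) + Module.length A (A ⧸ (J ⊔ Ideal.span {b})) := by
  refine le_antisymm (length_sup_mul_le J a b) ?_
  set K := J ⊔ Ideal.span {a * b}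
  have hle : K ≤ J ⊔ Ideal.span {a} :=
    sup_le_sup_left ((Ideal.span_singleton_le_span_singleton).2 (dvd_mul_right a b)) J
  let g : (A ⧸ K) →ₗ[A] A ⧸ (J ⊔ Ideal.span {a}) := Submodule.factor hle
  have hb : J ⊔ Ideal.span {b} = LinearMap.ker (K.mkQ ∘ₗ LinearMap.mulLeft A a) := by
    ext x
    rw [LinearMap.mem_ker, LinearMap.comp_apply, Submodule.mkQ_apply, Submodule.Quotient.mk_eq_zero,
      LinearMap.mulLeft_apply]
    constructor
    · intro hx
      obtain ⟨j, hj, z, hz, rfl⟩ := Submodule.mem_sup.1 hx
      obtain ⟨w, rfl⟩ := Ideal.mem_span_singleton.1 hz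
      rw [mul_add]
      exact add_mem (Ideal.mem_sup_left (J.mul_mem_left a hj))
        (Ideal.mem_sup_right (Ideal.mem_span_singleton.2 ⟨w, by ring⟩))
    · intro hx
      obtain ⟨j, hj, z, hz, h⟩ := Submodule.mem_sup.1 hx
      obtain ⟨w, rfl⟩ := Ideal.mem_span_singleton.1 hz
      have h' : a * (x - b * w) ∈ J := by rw [mul_sub, ← h, mul_assoc, add_sub_cancel_right]; exact hj
      rw [← sub_add_cancel x (b * w)]
      exact add_mem (Ideal.mem_sup_left (hreg _ h')) (Ideal.mem_sup_right (Ideal.mem_span_singleton.2 ⟨w, rfl⟩))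
  let f : (A ⧸ (J ⊔ Ideal.span {b})) →ₗ[A] LinearMap.ker g :=
    (Submodule.liftQ _ (K.mkQ ∘ₗ LinearMap.mulLeft A a) hb.le).codRestrict _ (fun y => by
      obtain ⟨c, rfl⟩ := Submodule.Quotient.mk_surjective _ y
      rw [LinearMap.mem_ker]
      exact (Submodule.Quotient.mk_eq_zero _).2 (Ideal.mem_sup_right (Ideal.mul_mem_right c _ (Ideal.mem_span_singleton_self a))))
  have hf : Function.Injective f := by
    intro y y' h
    have h' := congrArg Subtype.val h
    exact LinearMap.ker_eq_bot.1 (Submodule.ker_liftQ_eq_bot _ _ _ hb.ge) h'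
  rw [Module.length_eq_add_of_exact (LinearMap.ker g).subtype g Subtype.val_injective (Submodule.factor_surjective hle)
    (LinearMap.exact_subtype_ker_map g), add_comm]
  exact add_le_add (Module.length_le_of_injective f hf) le_rfl

theorem length_sup_prod_le {ι : Type*} (J : Ideal A) (s : Finset ι) (a : ι → A) :
    Module.length A (A ⧸ (J ⊔ Ideal.span {∏ i ∈ s, a i})) ≤ ∑ i ∈ s, Module.length A (A ⧸ (J ⊔ Ideal.span {a i})) := by
  classical
  induction s using Finset.induction_on with
  | empty =>
    rw [Finset.prod_empty, Ideal.span_singleton_one, sup_top_eq, Finset.sum_empty, nonpos_iff_eq_zero,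
      Module.length_eq_zero_iff]
    exact Submodule.Quotient.subsingleton_iff.2 rfl
  | insert i s hi ih =>
    rw [Finset.prod_insert hi, Finset.sum_insert hi]
    exact (length_sup_mul_le _ _ _).trans (add_le_add le_rfl ih)

theorem length_sup_prod_eq {ι : Type*} (J : Ideal A) (s : Finset ι) (a : ι → A)
    (hreg : ∀ i ∈ s, ∀ w, a i * w ∈ J → w ∈ J) :
    Module.length A (A ⧸ (J ⊔ Ideal.span {∏ i ∈ s, a i})) = ∑ i ∈ s, Module.length A (A ⧸ (J ⊔ Ideal.span {a i})) := by
  classical
  induction s using Finset.induction_on with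
  | empty =>
    rw [Finset.prod_empty, Ideal.span_singleton_one, sup_top_eq, Finset.sum_empty, Module.length_eq_zero_iff]
    exact Submodule.Quotient.subsingleton_iff.2 rfl
  | insert i s hi ih =>
    rw [Finset.prod_insert hi, Finset.sum_insert hi, length_sup_mul_eq _ _ _ (hreg i (Finset.mem_insert_self _ _)),
      ih fun j hj => hreg j (Finset.mem_insert_of_mem hj)]

theorem eq_of_mul_mem_of_dim {R : Type u} [CommRing R] (n : ℕ) [h : LocCoh.IsCohenMacaulayLocalRing R] :
    ∀ (x : Fin n → R) (a : R), ringKrullDim R = (n + 1 : ℕ) → (∀ i, x i ∈ maximalIdeal R) → a ∈ maximalIdeal R →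
      maximalIdeal R ≤ (Ideal.span (Set.range x) ⊔ Ideal.span {a}).radical →
      ∀ w, a * w ∈ Ideal.span (Set.range x) → w ∈ Ideal.span (Set.range x) := by
  induction n generalizing R h with
  | zero =>
    intro x a hd _ ha hrad w hw
    rw [Set.range_eq_empty, Ideal.span_empty, Ideal.mem_bot] at hw ⊢
    by_contra hw0
    obtain ⟨P, hP, hle⟩ := exists_le_isAssociatedPrime_of_isNoetherianRing R w hw0
    rw [Set.range_eq_empty, Ideal.span_empty, bot_sup_eq] at hrad
    have haP : a ∈ P := hle (by simpa [mul_comm] using hw)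
    haveI := hP.isPrime
    have hPm : P = maximalIdeal R := le_antisymm (le_maximalIdeal hP.isPrime.ne_top)
      (hrad.trans ((Ideal.IsPrime.radical_le_iff hP.isPrime).2 ((Ideal.span_singleton_le_iff_mem _).2 haP)))
    have h1 := Depth.ringKrullDim_quotient_associatedPrime (Depth.isCohenMacaulayModule_self R) (p := P) hP
    rw [Module.supportDim_self_eq_ringKrullDim, hd, hPm] at h1
    rw [ringKrullDim_eq_zero_of_isField ((Ideal.Quotient.maximal_ideal_iff_isField_quotient _).1 inferInstance)] at h1
    exact absurd h1 (by norm_num)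
  | succ n ih =>
    classical
    intro x a hd hx ha hrad w hw
    set J := Ideal.span (Set.range x)
    have hreg : IsSMulRegular R (x 0) := by
      refine isSMulRegular_iff_right_eq_zero_of_smul.2 fun y hy => ?_
      by_contra hy0
      obtain ⟨P, hP, hle⟩ := exists_le_isAssociatedPrime_of_isNoetherianRing R y hy0
      have hxP : x 0 ∈ P := hle (by simpa using hy)
      haveI := hP.isPrime
      have h1 := Depth.ringKrullDim_quotient_associatedPrime (Depth.isCohenMacaulayModule_self R) (p := P) hP
      rw [Module.supportDim_self_eq_ringKrullDim, hd] at h1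
      haveI : IsLocalRing (R ⧸ P) := .of_surjective' _ Ideal.Quotient.mk_surjective
      let S : Finset (R ⧸ P) := ((Finset.univ.image fun i : Fin n => Ideal.Quotient.mk P (x i.succ)) ∪ {Ideal.Quotient.mk P a})
      have hSm : Ideal.span (S : Set (R ⧸ P)) ≤ maximalIdeal (R ⧸ P) := by
        rw [Ideal.span_le]
        intro z hz
        rw [Finset.mem_coe, Finset.mem_union, Finset.mem_image, Finset.mem_singleton] at hz
        rw [← map_maximalIdeal_of_surjective (Ideal.Quotient.mk P) Ideal.Quotient.mk_surjective]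
        rcases hz with ⟨i, -, rfl⟩ | rfl
        · exact Ideal.mem_map_of_mem _ (hx i.succ)
        · exact Ideal.mem_map_of_mem _ ha
      have hmin : maximalIdeal (R ⧸ P) ∈ (Ideal.span (S : Set (R ⧸ P))).minimalPrimes := by
        refine ⟨⟨inferInstance, hSm⟩, fun Q ⟨hQ, hSQ⟩ _ => ?_⟩
        rw [← map_maximalIdeal_of_surjective (Ideal.Quotient.mk P) Ideal.Quotient.mk_surjective,
          Ideal.map_le_iff_le_comap]
        haveI := hQ
        refine hrad.trans ((Ideal.IsPrime.radical_le_iff (Ideal.IsPrime.comap _)).2 (sup_le (Ideal.span_le.2 ?_) ?_))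
        · rintro _ ⟨i, rfl⟩
          rw [SetLike.mem_coe, Ideal.mem_comap]
          induction i using Fin.cases with
          | zero => rw [Ideal.Quotient.eq_zero_iff_mem.2 hxP]; exact Q.zero_mem
          | succ i => exact hSQ (Ideal.subset_span (Finset.mem_union_left _ (Finset.mem_image_of_mem _ (Finset.mem_univ i))))
        · rw [Ideal.span_singleton_le_iff_mem, Ideal.mem_comap]
          exact hSQ (Ideal.subset_span (Finset.mem_union_right _ (Finset.mem_singleton_self _)))
      have h2 := WithBot.coe_le_coe.2 (Ideal.height_le_card_of_mem_minimalPrimes_span_finset hmin)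
      rw [maximalIdeal_height_eq_ringKrullDim, h1] at h2
      have h3 : n + 1 + 1 ≤ S.card := by exact_mod_cast h2
      have h4 : S.card ≤ n + 1 := (Finset.card_union_le _ _).trans (add_le_add
        (Finset.card_image_le.trans (by simp)) (by simp))
      omega
    let I : Ideal R := Ideal.span {x 0}
    have hIm : I ≤ maximalIdeal R := (Ideal.span_singleton_le_iff_mem _).2 (hx 0)
    haveI : Nontrivial (R ⧸ I) := Ideal.Quotient.nontrivial_iff.2 fun h' => (maximalIdeal.isMaximal R).ne_top (top_unique (h' ▸ hIm))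
    haveI : IsLocalRing (R ⧸ I) := .of_surjective' _ Ideal.Quotient.mk_surjective
    have heq : x 0 • (⊤ : Submodule R R) = I := by
      rw [← Submodule.ideal_span_singleton_smul, smul_eq_mul, Ideal.mul_top]
    have hsurj : Function.Surjective (algebraMap R (R ⧸ I)) := Ideal.Quotient.mk_surjective
    have hCMq : LocCoh.IsCohenMacaulayModule R (R ⧸ I) :=
      (Depth.isCohenMacaulayModule_congr (Submodule.quotEquivOfEq _ _ heq)).1
        ((Depth.isCohenMacaulayModule_quotSMulTop_iff (hx 0) hreg).2 (Depth.isCohenMacaulayModule_self R))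
    haveI : LocCoh.IsCohenMacaulayLocalRing (R ⧸ I) :=
      Depth.isCohenMacaulayLocalRing_iff.2 ((Depth.isCohenMacaulayModule_iff_of_surjective hsurj).2 hCMq)
    have hdim : ringKrullDim (R ⧸ I) = (n + 1 : ℕ) := by
      have h2 := Module.supportDim_quotSMulTop_succ_eq_supportDim (M := R) hreg (hx 0)
      rw [Module.supportDim_eq_of_equiv (Submodule.quotEquivOfEq _ _ heq), Module.supportDim_self_eq_ringKrullDim, hd,
        ← Depth.supportDim_of_surjective (S := R ⧸ I) hsurj, Module.supportDim_self_eq_ringKrullDim] at h2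
      exact Depth.withBot_add_one_right_cancel (h2.trans (by push_cast; rfl))
    have hmapJ : Ideal.map (Ideal.Quotient.mk I) J = Ideal.span (Set.range fun i : Fin n => Ideal.Quotient.mk I (x i.succ)) := by
      refine le_antisymm ?_ (Ideal.span_le.2 ?_)
      · rw [Ideal.map_le_iff_le_comap, Ideal.span_le]
        rintro _ ⟨i, rfl⟩
        rw [SetLike.mem_coe, Ideal.mem_comap]
        induction i using Fin.cases with
        | zero =>
          rw [Ideal.Quotient.eq_zero_iff_mem.2 (Ideal.mem_span_singleton_self _)]; exact zero_mem _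
        | succ i => exact Ideal.subset_span ⟨i, rfl⟩
      · rintro _ ⟨i, rfl⟩
        exact Ideal.mem_map_of_mem _ (Ideal.subset_span (Set.mem_range_self _))
    have hI : I ≤ J := (Ideal.span_singleton_le_iff_mem _).2 (Ideal.subset_span (Set.mem_range_self 0))
    have key := ih (R := R ⧸ I) (fun i => Ideal.Quotient.mk I (x i.succ)) (Ideal.Quotient.mk I a) hdim
      (fun i => by
        rw [← map_maximalIdeal_of_surjective (Ideal.Quotient.mk I) Ideal.Quotient.mk_surjective]
        exact Ideal.mem_map_of_mem _ (hx i.succ))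
      (by
        rw [← map_maximalIdeal_of_surjective (Ideal.Quotient.mk I) Ideal.Quotient.mk_surjective]
        exact Ideal.mem_map_of_mem _ ha)
      (by
        rw [← map_maximalIdeal_of_surjective (Ideal.Quotient.mk I) Ideal.Quotient.mk_surjective, ← hmapJ,
          ← Set.image_singleton, ← Ideal.map_span, ← Ideal.map_sup]
        exact (Ideal.map_mono hrad).trans (Ideal.map_radical_le _))
      (Ideal.Quotient.mk I w) (by rw [← map_mul, ← hmapJ]; exact Ideal.mem_map_of_mem _ hw)
    rw [← hmapJ] at key
    have := (Ideal.mem_comap (f := Ideal.Quotient.mk I)).2 key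
    rwa [Ideal.comap_map_of_surjective _ Ideal.Quotient.mk_surjective, ← RingHom.ker_eq_comap_bot, Ideal.mk_ker,
      sup_eq_left.2 hI] at this

end Groth.Agent.ASPurity.LengthProd
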