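import Mathlib
import Groth.Agent.ASPurity.Family

/-!
# Minor elements in `R[u] / (u_i ^ p - (μ a_i) ^ (p - 1) u_i - x_i)`
-/

set_option autoImplicit false
set_option linter.style.haveILetI false

universe u v w

namespace Groth.Agent.ASPurity.Family

variable {σ : Type w} [Fintype σ] [DecidableEq σ] {p : ℕ} [Fact p.Prime] {R : Type u} [CommRing R] [IsDomain R]
  [CharP R p]

/-- The minor element. -/
noncomputable abbrev minor (p : ℕ) (μ : R) (a x : σ → R) (i₀ : σ) (j : {j : σ // j ≠ i₀}) :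
    MvPolynomial σ R ⧸ relI p (fun i => (μ * a i) ^ (p - 1)) x :=
  algebraMap R _ (a i₀) * var p _ x j.1 - algebraMap R _ (a j.1) * var p _ x i₀

omit [Fintype σ] [DecidableEq σ] [IsDomain R] in
theorem minor_pow (μ : R) (a x : σ → R) (i₀ : σ) (j : {j : σ // j ≠ i₀}) :
    minor p μ a x i₀ j ^ p = algebraMap R _ ((μ * a i₀ * a j.1) ^ (p - 1)) * minor p μ a x i₀ j +
      algebraMap R _ (a i₀ ^ p * x j.1 - a j.1 ^ p * x i₀) := by
  rcases subsingleton_or_nontrivial (MvPolynomial σ R ⧸ relI p (fun i => (μ * a i) ^ (p - 1)) x) with hs | hn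
  · exact Subsingleton.elim _ _
  have : CharP (MvPolynomial σ R ⧸ relI p (fun i => (μ * a i) ^ (p - 1)) x) p :=
    (CharP.charP_iff_prime_eq_zero (Fact.out : p.Prime)).2 (by
      rw [← map_natCast (algebraMap R _), CharP.cast_eq_zero, map_zero])
  obtain ⟨q, hq⟩ : ∃ q, p = q + 1 := ⟨p - 1, (Nat.sub_add_cancel (Fact.out : p.Prime).one_le).symm⟩
  unfold minor
  rw [sub_pow_expChar, mul_pow, mul_pow, var_pow, var_pow]
  simp only [map_sub, map_pow, map_mul, hq, Nat.add_sub_cancel]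
  ring

/-- The complete intersection ring of the minors embeds. -/
theorem exists_minorHom (μ : R) (a x : σ → R) (i₀ : σ) (hμ : μ ≠ 0) (ha : ∀ i, a i ≠ 0) :
    ∃ φ : (MvPolynomial {j : σ // j ≠ i₀} R ⧸ relI p (fun j : {j : σ // j ≠ i₀} => (μ * a i₀ * a j.1) ^ (p - 1))
        (fun j : {j : σ // j ≠ i₀} => a i₀ ^ p * x j.1 - a j.1 ^ p * x i₀)) →ₐ[R]
        (MvPolynomial σ R ⧸ relI p (fun i => (μ * a i) ^ (p - 1)) x),
      (∀ j, φ (var p _ _ j) = minor p μ a x i₀ j) ∧ Function.Injective φ := by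
  obtain ⟨φ, hφ⟩ := exists_lift (p := p) (fun j : {j : σ // j ≠ i₀} => (μ * a i₀ * a j.1) ^ (p - 1))
    (fun j : {j : σ // j ≠ i₀} => a i₀ ^ p * x j.1 - a j.1 ^ p * x i₀) (fun j => minor p μ a x i₀ j)
    (fun j => minor_pow μ a x i₀ j)
  refine ⟨φ, hφ, ?_⟩
  choose θ hθ using fun j : {j : σ // j ≠ i₀} => exists_shiftHom (p := p) (fun i => μ * a i) x j.1
  have hz : ∀ j i, θ j (minor p μ a x i₀ i) = minor p μ a x i₀ i + if i = j then algebraMap R _ (μ * a i₀ * a j.1) else 0 := by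
    intro j i
    simp only [minor, map_sub, map_mul, AlgHom.commutes, hθ, if_neg (Ne.symm j.2)]
    by_cases h : i = j
    · subst h; simp only [↓reduceIte, add_zero, map_mul]; ring
    · rw [if_neg (fun h' => h (Subtype.ext h')), if_neg h]; ring
  have hinj := lc_injective (p := p) (R := R) (minor p μ a x i₀) (algebraMap_injective (p := p) (fun i => μ * a i) x)
    (fun j : {j : σ // j ≠ i₀} => μ * a i₀ * a j.1) (fun j => mul_ne_zero (mul_ne_zero hμ (ha _)) (ha _)) θ hz
  have hlc : ∀ c : ({j : σ // j ≠ i₀} → Fin p) → R, φ (lc (R := R) (p := p) (var p _ _) c) = lc (R := R) (p := p) (minor p μ a x i₀) c := fun c => by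
    rw [lc_apply, lc_apply, map_sum]
    refine Finset.sum_congr rfl fun e _ => ?_
    rw [map_mul, AlgHom.commutes]
    refine congrArg _ ((map_prod φ.toRingHom.toMonoidHom _ _).trans (Finset.prod_congr rfl fun j _ => ?_))
    exact (map_pow φ _ _).trans (congrArg (· ^ _) (hφ j))
  intro y y' h
  obtain ⟨c, rfl⟩ := lc_surjective (Fact.out : p.Prime).two_le _ _ _
    (var_pow (p := p) (fun j : {j : σ // j ≠ i₀} => (μ * a i₀ * a j.1) ^ (p - 1))
      (fun j : {j : σ // j ≠ i₀} => a i₀ ^ p * x j.1 - a j.1 ^ p * x i₀)) (adjoin_var _ _) y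
  obtain ⟨c', rfl⟩ := lc_surjective (Fact.out : p.Prime).two_le _ _ _
    (var_pow (p := p) (fun j : {j : σ // j ≠ i₀} => (μ * a i₀ * a j.1) ^ (p - 1))
      (fun j : {j : σ // j ≠ i₀} => a i₀ ^ p * x j.1 - a j.1 ^ p * x i₀)) (adjoin_var _ _) y'
  rw [hlc, hlc] at h
  rw [hinj h]

omit [Fintype σ] [IsDomain R] in
/-- The minors are fixed by the diagonal shift. -/
theorem map_minor (μ : R) (a x : σ → R) (i₀ : σ)
    (θ : (MvPolynomial σ R ⧸ relI p (fun i => (μ * a i) ^ (p - 1)) x) →ₐ[R]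
      (MvPolynomial σ R ⧸ relI p (fun i => (μ * a i) ^ (p - 1)) x))
    (hθ : ∀ i, θ (var p _ x i) = var p _ x i + algebraMap R _ (μ * a i)) (j : {j : σ // j ≠ i₀}) :
    θ (minor p μ a x i₀ j) = minor p μ a x i₀ j := by
  simp only [minor, map_sub, map_mul, AlgHom.commutes, hθ]
  ring

/-- A fixed element lies in the minor subalgebra after inverting `a i₀`. -/
theorem exists_pow_mul_mem_adjoin_of {A : Type v} [CommRing A] [IsDomain A] [Algebra R A] (μ : R) (a x : σ → R)
    (i₀ : σ) (hμ : μ ≠ 0) (ha : a i₀ ≠ 0) (hinj : Function.Injective (algebraMap R A)) (u : σ → A)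
    (hgen : Algebra.adjoin R (Set.range u) = ⊤)
    (hrel : u i₀ ^ p = algebraMap R A ((μ * a i₀) ^ (p - 1)) * u i₀ + algebraMap R A (x i₀))
    (θ : A →ₐ[R] A) (hθ : ∀ i, θ (u i) = u i + algebraMap R A (μ * a i)) {t : A} (ht : θ t = t) :
    ∃ N : ℕ, algebraMap R A (μ * a i₀) ^ N * t ∈ Algebra.adjoin R (Set.range fun j : {j : σ // j ≠ i₀} =>
      algebraMap R A (a i₀) * u j.1 - algebraMap R A (a j.1) * u i₀) := by
  classical
  set z : {j : σ // j ≠ i₀} → A := fun j => algebraMap R A (a i₀) * u j.1 - algebraMap R A (a j.1) * u i₀ with hz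
  let R' : Subalgebra R A := Algebra.adjoin R (Set.range z)
  let u₀ : A := (u i₀)
  let W : Subalgebra R' A := Algebra.adjoin R' (Set.range fun _ : Unit => u₀)
  have hR' : ∀ y ∈ R', y ∈ W := fun y hy => W.algebraMap_mem ⟨y, hy⟩
  have ha₀ : algebraMap R A (a i₀) ∈ W := hR' _ (R'.algebraMap_mem _)
  have hall : ∀ s : A, ∃ N : ℕ, algebraMap R A (a i₀) ^ N * s ∈ W := by
    intro s
    have hs : s ∈ Algebra.adjoin R (Set.range u) := by
      rw [hgen]; trivial
    induction hs using Algebra.adjoin_induction with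
    | mem y hy =>
      obtain ⟨i, rfl⟩ := hy
      refine ⟨1, ?_⟩
      rw [pow_one]
      by_cases h : i = i₀
      · subst h
        exact W.mul_mem ha₀ (Algebra.subset_adjoin ⟨(), rfl⟩)
      · rw [show algebraMap R A (a i₀) * (u i) = z ⟨i, h⟩ + algebraMap R A (a i) * u₀ by
          simp only [z, u₀]; exact (sub_add_cancel _ _).symm]
        exact W.add_mem (hR' _ (Algebra.subset_adjoin ⟨_, rfl⟩))
          (W.mul_mem (hR' _ (R'.algebraMap_mem _)) (Algebra.subset_adjoin ⟨(), rfl⟩))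
    | algebraMap r => exact ⟨0, by rw [pow_zero, one_mul]; exact hR' _ (R'.algebraMap_mem r)⟩
    | add y z _ _ hy hz =>
      obtain ⟨M, hM⟩ := hy
      obtain ⟨N, hN⟩ := hz
      refine ⟨M + N, ?_⟩
      rw [show algebraMap R A (a i₀) ^ (M + N) * (y + z) = algebraMap R A (a i₀) ^ N * (algebraMap R A (a i₀) ^ M * y) +
        algebraMap R A (a i₀) ^ M * (algebraMap R A (a i₀) ^ N * z) by ring]
      exact W.add_mem (W.mul_mem (W.pow_mem ha₀ _) hM) (W.mul_mem (W.pow_mem ha₀ _) hN)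
    | mul y z _ _ hy hz =>
      obtain ⟨M, hM⟩ := hy
      obtain ⟨N, hN⟩ := hz
      refine ⟨M + N, ?_⟩
      rw [show algebraMap R A (a i₀) ^ (M + N) * (y * z) = (algebraMap R A (a i₀) ^ M * y) *
        (algebraMap R A (a i₀) ^ N * z) by ring]
      exact W.mul_mem hM hN
  obtain ⟨N, hN⟩ := hall t
  haveI : CharP R' p := charP_of_injective_algebraMap
    (R := R) (A := R') (fun r s h => hinj (congrArg Subtype.val h)) p
  have hfix : ∀ y ∈ R', θ y = y := by
    intro y hy
    induction hy using Algebra.adjoin_induction with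
    | mem y hy => obtain ⟨j, rfl⟩ := hy; simp only [z, map_sub, map_mul, θ.commutes, hθ]; ring
    | algebraMap r => exact θ.commutes r
    | add y z _ _ hy hz => rw [map_add, hy, hz]
    | mul y z _ _ hy hz => rw [map_mul, hy, hz]
  let θ' : A →ₐ[R'] A := { θ.toRingHom with commutes' := fun y => hfix y.1 y.2 }
  let δ : R' := algebraMap R R' (μ * a i₀)
  have hδ : δ ≠ 0 := fun h => mul_ne_zero hμ ha (hinj
    (show algebraMap R A (μ * a i₀) = algebraMap R A 0 by rw [map_zero]; exact congrArg Subtype.val h))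
  obtain ⟨c, hc⟩ := mem_range_lc (R := R') (Fact.out : p.Prime).two_le (fun _ : Unit => u₀)
    (fun _ => algebraMap R R' ((μ * a i₀) ^ (p - 1))) (fun _ => algebraMap R R' (x i₀))
    (fun _ => hrel) hN
  have hθ' : ∀ _ i : Unit, θ' u₀ = u₀ + if i = () then algebraMap R' A δ else 0 := fun _ i => by
    simp only [if_pos]
    exact hθ i₀
  have hshift : shift () δ c = 0 := by
    apply lc_injective (R := R') (fun _ : Unit => u₀) Subtype.val_injective (fun _ => δ) (fun _ => hδ) (fun _ => θ')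
      (fun j i => hθ' j i)
    rw [← algHom_lc_sub (fun _ : Unit => u₀) () δ θ' (fun i => hθ' () i) c, hc, map_zero]
    change θ (algebraMap R A (a i₀) ^ N * t) - _ = 0
    rw [map_mul, map_pow, θ.commutes, ht, sub_self]
  haveI : NeZero p := ⟨(Fact.out : p.Prime).ne_zero⟩
  have hc0 : lc (R := R') (fun _ : Unit => u₀) c = (c 0 : A) := by
    rw [lc_apply, Finset.sum_eq_single (0 : Unit → Fin p)]
    · rw [mon_zero, mul_one]; rfl
    · intro g _ hg
      rw [eq_zero_of_forall_shift (fun _ => δ) (fun _ => hδ) c (fun _ => hshift) g (fun h0 => hg (funext fun i => Fin.ext (by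
        simpa using (Finset.sum_eq_zero_iff.1 h0) i (Finset.mem_univ i)))), map_zero, zero_mul]
    · intro h; exact absurd (Finset.mem_univ _) h
  refine ⟨N, ?_⟩
  rw [map_mul, mul_pow, mul_assoc, ← hc, hc0]
  exact mul_mem (pow_mem (R'.algebraMap_mem μ) N) (c 0).2

end Groth.Agent.ASPurity.Family
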