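import Mathlib
import Groth.Agent.ASPurity.Family
import Groth.Agent.PSLoc.Basic
import Groth.Agent.RegLoc.Basic
import Groth.Agent.Adic.Basic
import Groth.Agent.CAlg48.AdicPow
import Groth.Agent.InvQLib.FiniteFree

/-!
# The Artin–Schreier family over a power series ring
-/

set_option autoImplicit false
set_option linter.style.haveILetI false

universe u v w

open IsLocalRing

namespace Groth.Agent.ASPurity.Family

variable {p : ℕ} [Fact p.Prime] {k : Type u} [Field k] {n : ℕ}

theorem charP_ps [CharP k p] : CharP (MvPowerSeries (Fin n) k) p :=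
  charP_of_injective_algebraMap (algebraMap k (MvPowerSeries (Fin n) k)).injective p

theorem mem_max_of_constantCoeff {f : MvPowerSeries (Fin n) k} (h : MvPowerSeries.constantCoeff f = 0) :
    f ∈ maximalIdeal (MvPowerSeries (Fin n) k) := by
  rw [mem_maximalIdeal, mem_nonunits_iff, MvPowerSeries.isUnit_iff_constantCoeff, h]
  exact not_isUnit_zero

theorem pow_mem_max {f : MvPowerSeries (Fin n) k} (h : MvPowerSeries.constantCoeff f = 0) :
    f ^ (p - 1) ∈ maximalIdeal (MvPowerSeries (Fin n) k) :=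
  Ideal.pow_mem_of_mem _ (mem_max_of_constantCoeff h) _ (Nat.sub_pos_of_lt (Fact.out : p.Prime).one_lt)

variable (p) in
/-- The ring of the family. -/
abbrev Ring (b : Fin n → MvPowerSeries (Fin n) k) :=
  MvPolynomial (Fin n) (MvPowerSeries (Fin n) k) ⧸ relI p b MvPowerSeries.X

theorem map_max_le (b : Fin n → MvPowerSeries (Fin n) k) :
    (maximalIdeal (MvPowerSeries (Fin n) k)).map (algebraMap _ (Ring p b)) ≤
      Ideal.span (Set.range (var p b MvPowerSeries.X)) := by
  rw [PSLoc.maximalIdeal_eq, Ideal.map_span, Ideal.span_le]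
  rintro _ ⟨_, ⟨i, rfl⟩, rfl⟩
  have h := var_pow (p := p) b MvPowerSeries.X i
  rw [← sub_eq_iff_eq_add'] at h
  rw [← h, SetLike.mem_coe]
  exact sub_mem (Ideal.pow_mem_of_mem _ (Ideal.subset_span (Set.mem_range_self i)) _ (Fact.out : p.Prime).pos)
    (Ideal.mul_mem_left _ _ (Ideal.subset_span (Set.mem_range_self i)))

theorem maximal_eq (b : Fin n → MvPowerSeries (Fin n) k) (hb : ∀ i, b i ∈ maximalIdeal (MvPowerSeries (Fin n) k)) :
    ∃ _ : IsLocalRing (Ring p b), maximalIdeal (Ring p b) = Ideal.span (Set.range (var p b MvPowerSeries.X)) := by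
  obtain ⟨h, hm⟩ := isLocalRing_and_maximalIdeal (p := p) b MvPowerSeries.X hb fun i =>
    mem_max_of_constantCoeff (MvPowerSeries.constantCoeff_X i)
  exact ⟨h, hm.trans (sup_eq_left.2 (map_max_le b))⟩

theorem isRegularLocalRing [CharP k p] (a : Fin n → MvPowerSeries (Fin n) k)
    (ha : ∀ i, MvPowerSeries.constantCoeff (a i) = 0) :
    IsRegularLocalRing (Ring p (fun i => a i ^ (p - 1))) := by
  haveI := charP_ps (p := p) (k := k) (n := n)
  haveI := moduleFinite (p := p) (fun i => a i ^ (p - 1)) (MvPowerSeries.X (R := k))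
  obtain ⟨h, hm⟩ := maximal_eq (p := p) (fun i => a i ^ (p - 1)) fun i => pow_mem_max (ha i)
  haveI : IsNoetherianRing (Ring p (fun i => a i ^ (p - 1))) := IsNoetherianRing.of_finite (MvPowerSeries (Fin n) k) _
  haveI : Algebra.IsIntegral (MvPowerSeries (Fin n) k) (Ring p (fun i => a i ^ (p - 1))) := Algebra.IsIntegral.of_finite _ _
  refine IsRegularLocalRing.of_spanFinrank_maximalIdeal_le _ ?_
  rw [InvQLib.FiniteFree.ringKrullDim_eq_of_integral (MvPowerSeries (Fin n) k) _ (algebraMap_injective a _),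
    PSLoc.ringKrullDim_eq, hm]
  have := Submodule.spanFinrank_span_le_ncard_of_finite (R := Ring p (fun i => a i ^ (p - 1)))
    (Set.finite_range (var p (fun i => a i ^ (p - 1)) MvPowerSeries.X))
  have hn : (Set.range (var p (fun i => a i ^ (p - 1)) (MvPowerSeries.X (R := k)))).ncard ≤ n := by
    rw [← Set.image_univ]
    exact (Set.ncard_image_le Set.finite_univ).trans (by simp)
  exact_mod_cast this.trans hn

theorem isDomain [CharP k p] (a : Fin n → MvPowerSeries (Fin n) k)
    (ha : ∀ i, MvPowerSeries.constantCoeff (a i) = 0) : IsDomain (Ring p (fun i => a i ^ (p - 1))) :=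
  haveI := isRegularLocalRing (p := p) a ha
  RegLoc.isDomain _

theorem isAdicComplete [CharP k p] (a : Fin n → MvPowerSeries (Fin n) k)
    (ha : ∀ i, MvPowerSeries.constantCoeff (a i) = 0) :
    IsAdicComplete (Ideal.span (Set.range (var p (fun i => a i ^ (p - 1)) MvPowerSeries.X)))
      (Ring p (fun i => a i ^ (p - 1))) := by
  haveI := moduleFinite (p := p) (fun i => a i ^ (p - 1)) (MvPowerSeries.X (R := k))
  set J := Ideal.span (Set.range (var p (fun i => a i ^ (p - 1)) (MvPowerSeries.X (R := k))))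
  have h1 : IsAdicComplete (Ideal.span (Set.range (MvPowerSeries.X : Fin n → MvPowerSeries (Fin n) k)))
      (Ring p (fun i => a i ^ (p - 1))) := Adic.isAdicComplete_of_finite _
  rw [← PSLoc.maximalIdeal_eq] at h1
  haveI := (IsAdicComplete.map_algebraMap_iff (S := Ring p (fun i => a i ^ (p - 1))) _ _).2 h1
  have hle : J ≤ ((maximalIdeal (MvPowerSeries (Fin n) k)).map
      (algebraMap _ (Ring p (fun i => a i ^ (p - 1))))).radical := by
    rw [Ideal.span_le]
    rintro _ ⟨i, rfl⟩
    refine ⟨p, ?_⟩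
    rw [var_pow]
    exact add_mem (Ideal.mul_mem_right _ _ (Ideal.mem_map_of_mem _ (pow_mem_max (ha i))))
      (Ideal.mem_map_of_mem _ (mem_max_of_constantCoeff (MvPowerSeries.constantCoeff_X i)))
  haveI : IsNoetherianRing (Ring p (fun i => a i ^ (p - 1))) := IsNoetherianRing.of_finite (MvPowerSeries (Fin n) k) _
  obtain ⟨N, hN⟩ := Ideal.exists_pow_le_of_le_radical_of_fg hle (IsNoetherian.noetherian _)
  exact CAlg48.AdicPow.isAdicComplete_of_pow_le (I := (maximalIdeal (MvPowerSeries (Fin n) k)).map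
      (algebraMap _ (Ring p (fun i => a i ^ (p - 1))))) (c := 1) (d := N + 1) one_pos N.succ_pos
    (by rw [pow_one]; exact map_max_le _) ((Ideal.pow_le_pow_right N.le_succ).trans hN)

end Groth.Agent.ASPurity.Family
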