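import Mathlib
import Groth.Agent.ASPurity.Invariants
import Groth.Agent.RegLoc.Homological

/-!
# The invariant ring of a `p`-cyclic action unramified off the closed point, on and off the closed point
-/

set_option autoImplicit false
set_option linter.style.haveILetI false

universe u v w

open IsLocalRing TensorProduct

namespace Groth.Agent.ASPurity

theorem exists_char {G : Type w} [Group G] (p : ℕ) [hp : Fact p.Prime] (hcard : Nat.card G = p) :
    ∃ χ : G → ZMod p, (∀ σ τ, χ (σ * τ) = χ σ + χ τ) ∧ (∀ σ, χ σ = 0 ↔ σ = 1) ∧ ∃ σ, χ σ = 1 := by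
  have hcyc : IsCyclic G := isCyclic_of_prime_card hcard
  let e : G ≃* Multiplicative (ZMod p) := mulEquivOfCyclicCardEq (by
    rw [hcard, Nat.card_eq_fintype_card, Fintype.card_multiplicative, ZMod.card])
  refine ⟨fun σ => (e σ).toAdd, fun σ τ => by simp, fun σ => ?_, e.symm (Multiplicative.ofAdd 1), by simp⟩
  constructor
  · intro h
    exact (map_eq_one_iff e e.injective).1 (toAdd_eq_zero.1 h)
  · rintro rfl; simp

variable {A : Type u} [CommRing A] [IsLocalRing A] {G : Type w} [Group G] [MulSemiringAction G A]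

theorem bot_ne_maximalIdeal (hdim : 2 ≤ ringKrullDim A) : (⊥ : Ideal A) ≠ maximalIdeal A := by
  intro h
  have hF : IsField A := (IsLocalRing.isField_iff_maximalIdeal_eq (R := A)).2 h.symm
  rw [ringKrullDim_eq_zero_of_isField hF] at hdim
  exact absurd hdim (by norm_num)

theorem smul_shift_fixed (p : ℕ) [hp : Fact p.Prime] [CharP A p] {c : G → A} (hc : ∀ σ, c σ ^ p = c σ)
    {t z : A} (ht : ∀ σ : G, σ • t = t) (hz : ∀ σ : G, σ • z = z + c σ * t) (σ : G) :
    σ • (z ^ p - t ^ (p - 1) * z) = z ^ p - t ^ (p - 1) * z := by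
  obtain ⟨q, hq⟩ : ∃ q, p = q + 1 := ⟨p - 1, (Nat.sub_add_cancel hp.out.one_le).symm⟩
  rw [smul_sub, smul_mul', smul_pow', smul_pow', ht, hz, add_pow_expChar, mul_pow, hc]
  simp only [hq, Nat.add_sub_cancel]
  ring

theorem castHom_pow (p : ℕ) [hp : Fact p.Prime] [CharP A p] (i : ZMod p) :
    ZMod.castHom dvd_rfl A i ^ p = ZMod.castHom dvd_rfl A i := by
  rw [← map_pow, ZMod.pow_card]

theorem clear_local {K : Type*} [Field K] {q : ℕ} {T₀ T N₀ N n : K} (h₀ : T₀ ≠ 0) (h : T ≠ 0)
    (key : N₀ * T ^ (q + 1) - n ^ (q + 1) + n * (T₀ * T) ^ q = N * T₀ ^ (q + 1)) :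
    T ^ (q + 1) * (N₀ / T₀ ^ (q + 1) - ((n / (T₀ * T)) ^ (q + 1) - n / (T₀ * T))) = N := by
  have hN : N = (N₀ * T ^ (q + 1) - n ^ (q + 1) + n * (T₀ * T) ^ q) / T₀ ^ (q + 1) := by
    rw [key]; field_simp
  rw [hN]
  simp only [div_pow, mul_pow, pow_succ]
  field_simp
  ring

theorem clear_glob {K : Type*} [Field K] {q : ℕ} {T₀ gd N₀ gn a : K} (h₀ : T₀ ≠ 0) (h : gd ≠ 0)
    (ha : N₀ / T₀ ^ (q + 1) - ((gn / gd) ^ (q + 1) - gn / gd) = a) :
    N₀ * gd ^ (q + 1) - T₀ ^ (q + 1) * (gn ^ (q + 1) - gn * gd ^ q) = a * T₀ ^ (q + 1) * gd ^ (q + 1) := by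
  rw [← ha]
  simp only [div_pow, pow_succ]
  field_simp

theorem clear_root {K : Type*} [Field K] {q : ℕ} {t gd z gn a : K} (h₀ : t ≠ 0) (h : gd ≠ 0)
    (h2 : (z ^ (q + 1) - t ^ q * z) * gd ^ (q + 1) - t ^ (q + 1) * (gn ^ (q + 1) - gn * gd ^ q) =
      a * t ^ (q + 1) * gd ^ (q + 1)) :
    ((z * gd) ^ (q + 1) - (gn * t) ^ (q + 1)) / (t * gd) ^ (q + 1) - ((z * gd - gn * t) / (t * gd) + a) = 0 := by
  have ha : a = ((z ^ (q + 1) - t ^ q * z) * gd ^ (q + 1) - t ^ (q + 1) * (gn ^ (q + 1) - gn * gd ^ q)) /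
      (t ^ (q + 1) * gd ^ (q + 1)) := by
    rw [h2, mul_assoc, mul_div_cancel_right₀]
    exact mul_ne_zero (pow_ne_zero _ h₀) (pow_ne_zero _ h)
  rw [ha]
  simp only [mul_pow, pow_succ]
  field_simp
  ring

/-- The invariant ring is not regular. -/
theorem not_isRegularLocalRing_invariants [IsNoetherianRing A] [IsDomain A] [IsIntegrallyClosed A]
    (p : ℕ) [hp : Fact p.Prime] [CharP A p] (hdim : 2 ≤ ringKrullDim A) [Finite G] (hcard : Nat.card G = p)
    (hres : ∀ (σ : G) (a : A), σ • a - a ∈ maximalIdeal A)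
    (hram : ∀ P : Ideal A, P.IsPrime → P ≠ maximalIdeal A → P.inertia G = ⊥) :
    ¬ IsRegularLocalRing (FixedPoints.subring A G) := by
  intro hreg
  classical
  have := Fintype.ofFinite G
  set B := FixedPoints.subring A G
  have := isIntegrallyClosed_invariants (A := A) (G := G)
  have : CharP B p := CharP.subring A p B
  have hint := (show Algebra.IsInvariant B A G from ⟨fun a ha => ⟨⟨a, ha⟩, rfl⟩⟩)
  have := Algebra.IsInvariant.isIntegral B A G
  obtain ⟨χ, hχ, -, σ₁, hσ₁⟩ := exists_char p hcard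
  obtain ⟨t₀, z₀, ht₀, htf₀, hz₀⟩ := exists_shift p χ hχ hram ⊥ (bot_ne_maximalIdeal hdim)
  have hc := fun σ => castHom_pow (A := A) p (χ σ)
  let N₀ : B := ⟨z₀ ^ p - t₀ ^ (p - 1) * z₀, smul_shift_fixed p hc htf₀ hz₀⟩
  let T₀ : B := ⟨t₀, htf₀⟩
  have hT₀ : algebraMap B (FractionRing B) T₀ ≠ 0 := fun h =>
    ht₀ (Ideal.mem_bot.2 (congrArg Subtype.val (IsFractionRing.to_map_eq_zero_iff.1 h)))
  obtain ⟨q, hq⟩ : ∃ q, p = q + 1 := ⟨p - 1, (Nat.sub_add_cancel hp.out.one_le).symm⟩
  have hloc : ∀ P : Ideal B, P.IsPrime → P.height = 1 →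
      ∃ g : FractionRing B, InLoc P ((algebraMap B (FractionRing B)) N₀ / (algebraMap B (FractionRing B)) T₀ ^ p - (g ^ p - g)) := by
    intro P hP h1
    obtain ⟨P', -, hP'p, hP'⟩ := Ideal.exists_ideal_over_prime_of_isIntegral (S := A) P ⊥ (fun b hb => by
      obtain rfl : b = 0 := Subtype.ext hb
      exact P.zero_mem)
    have hP'm : P' ≠ maximalIdeal A := by
      intro h
      have h3 : P'.IsMaximal := h ▸ maximalIdeal.isMaximal A
      have h4 : P.IsMaximal := hP' ▸ Ideal.isMaximal_comap_of_isIntegral_of_isMaximal P'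
      rw [IsLocalRing.eq_maximalIdeal h4] at h1
      rw [← ringKrullDim_invariants (G := G), ← IsLocalRing.maximalIdeal_height_eq_ringKrullDim, h1] at hdim
      exact absurd hdim (by norm_num)
    obtain ⟨t, z, ht, htf, hz⟩ := exists_shift p χ hχ hram P' hP'm
    let T : B := ⟨t, htf⟩
    let n : B := ⟨z₀ * t - z * t₀, fun σ => by rw [smul_sub, smul_mul', smul_mul', htf, htf₀, hz₀, hz]; ring⟩
    let N : B := ⟨z ^ p - t ^ (p - 1) * z, smul_shift_fixed p hc htf hz⟩
    have hTP : T ∉ P := fun h => ht (by rw [← hP'] at h; exact h)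
    have hT : (algebraMap B (FractionRing B)) T ≠ 0 := fun h => hTP (by rw [IsFractionRing.to_map_eq_zero_iff.1 h]; exact P.zero_mem)
    refine ⟨(algebraMap B (FractionRing B)) n / ((algebraMap B (FractionRing B)) T₀ * (algebraMap B (FractionRing B)) T), T ^ p, fun h => hTP (hP.mem_of_pow_mem p h), N, ?_⟩
    have key : N₀ * T ^ p - n ^ p + n * (T₀ * T) ^ (p - 1) = N * T₀ ^ p := by
      refine Subtype.ext ?_
      change (z₀ ^ p - t₀ ^ (p - 1) * z₀) * t ^ p - (z₀ * t - z * t₀) ^ p + (z₀ * t - z * t₀) * (t₀ * t) ^ (p - 1) =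
        (z ^ p - t ^ (p - 1) * z) * t₀ ^ p
      rw [sub_pow_expChar]
      simp only [hq, Nat.add_sub_cancel]
      ring
    have key' := congrArg (algebraMap B (FractionRing B)) key
    simp only [hq, Nat.add_sub_cancel, map_mul, map_add, map_sub, map_pow] at key' ⊢
    exact clear_local hT₀ hT key'
  obtain ⟨g, a, ha⟩ := exists_integral_representative p _ hloc
  obtain ⟨gn, gd, hgd, rfl⟩ := IsFractionRing.div_surjective (A := B) g
  have hgd0 : (algebraMap B (FractionRing B)) gd ≠ 0 := IsFractionRing.to_map_ne_zero_of_mem_nonZeroDivisors hgd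
  have hA : N₀ * gd ^ p - T₀ ^ p * (gn ^ p - gn * gd ^ (p - 1)) = a * T₀ ^ p * gd ^ p := by
    apply IsFractionRing.injective B (FractionRing B)
    simp only [hq, Nat.add_sub_cancel, map_mul, map_sub, map_pow] at ha ⊢
    exact clear_glob hT₀ hgd0 ha
  have hA' := congrArg (B.subtype) hA
  simp only [map_mul, map_sub, map_pow, Subring.subtype_apply, hq, Nat.add_sub_cancel, N₀, T₀] at hA'
  have ht₀' : algebraMap A (FractionRing A) t₀ ≠ 0 := fun h =>
    ht₀ (Ideal.mem_bot.2 (IsFractionRing.to_map_eq_zero_iff.1 h))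
  have hgd' : algebraMap A (FractionRing A) (gd : A) ≠ 0 := fun h => hgd0 (by
    rw [show gd = 0 from Subtype.ext (IsFractionRing.to_map_eq_zero_iff.1 h), map_zero])
  set w := ((algebraMap A (FractionRing A)) z₀ * (algebraMap A (FractionRing A)) (gd : A) - (algebraMap A (FractionRing A)) (gn : A) * (algebraMap A (FractionRing A)) t₀) / ((algebraMap A (FractionRing A)) t₀ * (algebraMap A (FractionRing A)) (gd : A)) with hw
  have : CharP (FractionRing A) p := charP_of_injective_algebraMap (IsFractionRing.injective A _) p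
  have hwint : IsIntegral A w := by
    refine ⟨Polynomial.X ^ p - (Polynomial.X + Polynomial.C (a : A)), ?_, ?_⟩
    · refine Polynomial.monic_X_pow_sub ?_
      rw [Polynomial.degree_X_add_C]; exact_mod_cast hp.out.one_lt
    · simp only [Polynomial.eval₂_sub, Polynomial.eval₂_add, Polynomial.eval₂_pow, Polynomial.eval₂_X,
        Polynomial.eval₂_C]
      have h2 := congrArg (algebraMap A (FractionRing A)) hA'
      simp only [map_mul, map_sub, map_pow] at h2
      rw [hw, div_pow, sub_pow_expChar]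
      simp only [hq] at h2 ⊢
      exact clear_root ht₀' hgd' h2
  obtain ⟨c, hcw⟩ := IsIntegrallyClosed.isIntegral_iff.1 hwint
  have hmul : z₀ * (gd : A) - (gn : A) * t₀ = c * (t₀ * (gd : A)) := by
    apply IsFractionRing.injective A (FractionRing A)
    simp only [map_mul, map_sub]
    change (algebraMap A (FractionRing A)) z₀ * (algebraMap A (FractionRing A)) (gd : A) - (algebraMap A (FractionRing A)) (gn : A) * (algebraMap A (FractionRing A)) t₀ = (algebraMap A (FractionRing A)) c * ((algebraMap A (FractionRing A)) t₀ * (algebraMap A (FractionRing A)) (gd : A))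
    rw [hcw, hw, div_mul_cancel₀ _ (mul_ne_zero ht₀' hgd')]
  have hmul' := congrArg (σ₁ • ·) hmul
  simp only [smul_sub, smul_mul', htf₀, hz₀, gd.2 σ₁, gn.2 σ₁, hσ₁, map_one] at hmul'
  have hne : t₀ * (gd : A) ≠ 0 := fun h => mul_ne_zero ht₀' hgd' (by rw [← map_mul, h, map_zero])
  have h1 : σ₁ • c - c = 1 := mul_right_cancel₀ hne (by linear_combination hmul - hmul')
  exact (maximalIdeal.isMaximal A).ne_top ((Ideal.eq_top_iff_one _).2 (h1 ▸ hres σ₁ c))

/-- Off the closed point the invariant ring is regular. -/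
theorem isRegularLocalRing_localization_invariants [IsRegularLocalRing A]
    (p : ℕ) [hp : Fact p.Prime] [CharP A p] [Finite G] (hcard : Nat.card G = p)
    [IsNoetherianRing (FixedPoints.subring A G)]
    (hram : ∀ P : Ideal A, P.IsPrime → P ≠ maximalIdeal A → P.inertia G = ⊥)
    (P : Ideal (FixedPoints.subring A G)) [P.IsPrime] (hP : ¬ P.IsMaximal) :
    IsRegularLocalRing (Localization.AtPrime P) := by
  classical
  have := Fintype.ofFinite G
  let B := FixedPoints.subring A G
  have : Algebra.IsInvariant B A G := ⟨fun a ha => ⟨⟨a, ha⟩, rfl⟩⟩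
  have := Algebra.IsInvariant.isIntegral B A G
  obtain ⟨P', -, hP'p, hP'⟩ := Ideal.exists_ideal_over_prime_of_isIntegral (S := A) P ⊥ (fun b hb => by
    obtain rfl : b = 0 := Subtype.ext hb
    exact P.zero_mem)
  have hP'm : P' ≠ maximalIdeal A := by
    intro h
    have : P'.IsMaximal := h ▸ maximalIdeal.isMaximal A
    exact hP (hP' ▸ Ideal.isMaximal_comap_of_isIntegral_of_isMaximal P')
  obtain ⟨χ, hχ, hχ0, -⟩ := exists_char p hcard
  obtain ⟨t, z, ht, htf, hz⟩ := exists_shift p χ hχ hram P' hP'm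
  obtain ⟨q, hq⟩ : ∃ q, p = q + 1 := ⟨p - 1, (Nat.sub_add_cancel hp.out.one_le).symm⟩
  -- trace
  let t₁ : A →ₗ[B] A :=
    { toFun := fun a => ∑ g : G, g • a
      map_add' := fun a b => by simp [smul_add, Finset.sum_add_distrib]
      map_smul' := fun b a => by
        simp only [RingHom.id_apply, Subring.smul_def, smul_eq_mul, smul_mul', Finset.mul_sum]
        exact Finset.sum_congr rfl fun g _ => by rw [b.2 g] }
  have htr : ∀ (a : A) (g : G), g • t₁ a = t₁ a := fun a g => by
    simp only [t₁, LinearMap.coe_mk, AddHom.coe_mk, Finset.smul_sum, smul_smul]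
    exact Fintype.sum_equiv (Equiv.mulLeft g) _ _ fun _ => rfl
  let Tr : A →ₗ[B] B :=
    { toFun := fun a => ⟨t₁ a, htr a⟩
      map_add' := fun a b => Subtype.ext (map_add t₁ a b)
      map_smul' := fun b a => Subtype.ext (map_smul t₁ b a) }
  let x : Option (Fin p) → A := fun o => o.elim (t ^ q) fun i => -((q.choose i : A) * z ^ (i : ℕ))
  let y : Option (Fin p) → A := fun o => o.elim 1 fun i => (-z) ^ (q - i)
  let fwd : A →ₗ[B] (Option (Fin p) → B) := LinearMap.pi fun o => Tr ∘ₗ LinearMap.mulLeft B (y o)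
  let back : (Option (Fin p) → B) →ₗ[B] A := ∑ o, (LinearMap.proj o).smulRight (x o)
  have hδ : ∀ σ : G, ∑ o, x o * σ • y o = if σ = 1 then t ^ q else 0 := by
    intro σ
    rw [Fintype.sum_option]
    simp only [x, y, Option.elim_none, Option.elim_some, smul_one, mul_one, smul_pow', smul_neg, neg_mul,
      Finset.sum_neg_distrib]
    have : ∑ i : Fin p, (q.choose i : A) * z ^ (i : ℕ) * (-(σ • z)) ^ (q - i) = (z + -(σ • z)) ^ q := by
      rw [add_pow, Fin.sum_univ_eq_sum_range (fun i => (q.choose i : A) * z ^ i * (-(σ • z)) ^ (q - i)), hq]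
      exact Finset.sum_congr rfl fun i _ => by ring
    rw [this, hz, show z + -(z + ZMod.castHom dvd_rfl A (χ σ) * t) = ZMod.castHom dvd_rfl A (-χ σ) * t by
      rw [map_neg]; ring, mul_pow, ← map_pow]
    split_ifs with h
    · subst h
      have hq0 : q ≠ 0 := by have := hp.out.two_le; omega
      rw [(hχ0 1).2 rfl, neg_zero, zero_pow hq0, map_zero]; ring
    · have : (-χ σ) ^ q = 1 := by
        have := ZMod.pow_card_sub_one_eq_one (neg_ne_zero.2 fun h0 => h ((hχ0 σ).1 h0))
        rwa [show p - 1 = q by omega] at this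
      rw [this, map_one]; ring
  let u : B := ⟨t ^ q, fun σ => by rw [smul_pow', htf]⟩
  have hsplit : back ∘ₗ fwd = u • LinearMap.id := by
    ext a
    simp only [back, fwd, LinearMap.comp_apply, LinearMap.sum_apply, LinearMap.smulRight_apply,
      LinearMap.proj_apply, LinearMap.pi_apply, LinearMap.mulLeft_apply, LinearMap.smul_apply, LinearMap.id_apply,
      Subring.smul_def, smul_eq_mul]
    change ∑ o, (∑ g : G, g • (y o * a)) * x o = t ^ q * a
    simp only [smul_mul', Finset.sum_mul]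
    rw [Finset.sum_comm]
    have : ∀ g : G, ∑ o, g • y o * g • a * x o = (if g = 1 then t ^ q else 0) * g • a := fun g => by
      rw [← hδ, Finset.sum_mul]; exact Finset.sum_congr rfl fun o _ => by ring
    simp [this]
  -- base change to the localization
  let Bp := Localization.AtPrime P
  have hu : IsUnit (algebraMap B Bp u) := IsLocalization.map_units Bp (⟨u, fun h => ht (hP'p.mem_of_pow_mem q (by
    rw [← hP'] at h; exact h))⟩ : P.primeCompl)
  obtain ⟨uu, huu⟩ := hu
  have hproj : Module.Projective Bp (Bp ⊗[B] A) := by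
    refine Module.Projective.of_split (fwd.baseChange Bp) ((↑uu⁻¹ : Bp) • back.baseChange Bp) ?_
    rw [LinearMap.smul_comp, ← LinearMap.baseChange_comp, hsplit]
    ext a
    simp only [LinearMap.smul_apply, LinearMap.baseChange_tmul, LinearMap.id_apply, AlgebraTensorModule.curry_apply,
      LinearMap.restrictScalars_apply, TensorProduct.curry_apply]
    rw [TensorProduct.smul_tmul', ← TensorProduct.smul_tmul]
    congr 1
    rw [Algebra.smul_def, smul_eq_mul, mul_one, ← huu, Units.mul_inv]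
  letI : Algebra A (Bp ⊗[B] A) := Algebra.TensorProduct.rightAlgebra
  let S := Localization.AtPrime P'
  have hM : Algebra.algebraMapSubmonoid A P.primeCompl ≤ P'.primeCompl := by
    rintro _ ⟨b, hb, rfl⟩ h
    exact hb (by rw [← hP']; exact h)
  have hunit : ∀ m : Algebra.algebraMapSubmonoid A P.primeCompl, IsUnit (algebraMap A S m) := fun m =>
    IsLocalization.map_units S (⟨m, hM m.2⟩ : P'.primeCompl)
  letI algTS : Algebra (Bp ⊗[B] A) S := (IsLocalization.lift (M := Algebra.algebraMapSubmonoid A P.primeCompl) hunit).toAlgebra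
  haveI : IsScalarTower A (Bp ⊗[B] A) S := IsScalarTower.of_algebraMap_eq fun a => by
    rw [RingHom.algebraMap_toAlgebra, IsLocalization.lift_eq]
  haveI := IsLocalization.isLocalization_of_submonoid_le (Bp ⊗[B] A) S
    (Algebra.algebraMapSubmonoid A P.primeCompl) P'.primeCompl hM
  haveI : Module.Flat (Bp ⊗[B] A) S :=
    IsLocalization.flat S (P'.primeCompl.map (algebraMap A (Bp ⊗[B] A)))
  letI : Algebra Bp S := (Localization.localRingHom P P' (algebraMap B A) hP'.symm).toAlgebra
  haveI : IsLocalHom (algebraMap Bp S) := Localization.isLocalHom_localRingHom _ _ _ _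
  haveI : IsScalarTower Bp (Bp ⊗[B] A) S := by
    refine IsScalarTower.of_algebraMap_eq' (R := Bp) (S := Bp ⊗[B] A) (A := S) ?_
    refine IsLocalization.ringHom_ext (R := B) P.primeCompl (S := Bp) ?_
    refine RingHom.ext fun b => ?_
    have e : algebraMap Bp (Bp ⊗[B] A) (algebraMap B Bp b) = algebraMap A (Bp ⊗[B] A) (algebraMap B A b) := by
      change algebraMap B Bp b ⊗ₜ[B] (1 : A) = (1 : Bp) ⊗ₜ[B] algebraMap B A b
      rw [Algebra.algebraMap_eq_smul_one, TensorProduct.smul_tmul, ← Algebra.algebraMap_eq_smul_one]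
    simp only [RingHom.comp_apply, e, ← IsScalarTower.algebraMap_apply A (Bp ⊗[B] A) S]
    exact Localization.localRingHom_to_map _ _ _ _ b
  haveI : Module.Flat Bp S := Module.Flat.trans Bp (Bp ⊗[B] A) S
  haveI : IsRegularLocalRing S := RegLoc.Homological.isRegularLocalRing_localization P'
  haveI : IsNoetherianRing Bp := IsLocalization.isNoetherianRing P.primeCompl Bp inferInstance
  exact RegLoc.Homological.isRegularLocalRing_of_flat (R := Bp) S

end Groth.Agent.ASPurity
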